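import Mathlib
import Cfsg.Prelude.Def_KGroupFacts

/-!
# The Schur multiplier of a finite group

`Cov Q` is the universal central extension `F/[F,R]` of a free presentation `1 → R → F → Q → 1`,
and `mult Q` the intersection of its kernel with the derived subgroup.
-/

set_option autoImplicit false
set_option linter.style.haveILetI false

open scoped commutatorElement

universe u v w

namespace Cfsg.Agent.SchurMult

theorem commutator_mul_central {G : Type*} [Group G] (a b : G) {z z' : G}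
    (hz : z ∈ Subgroup.center G) (hz' : z' ∈ Subgroup.center G) : ⁅a * z, b * z'⁆ = ⁅a, b⁆ := by
  have e1 := Subgroup.mem_center_iff.mp hz
  have e2 := Subgroup.mem_center_iff.mp hz'
  rw [commutatorElement_def, commutatorElement_def, mul_inv_rev, mul_inv_rev]
  calc a * z * (b * z') * (z⁻¹ * a⁻¹) * (z'⁻¹ * b⁻¹)
      = a * z * b * (z' * z⁻¹) * a⁻¹ * z'⁻¹ * b⁻¹ := by group
    _ = a * (z * b) * z⁻¹ * (z' * a⁻¹) * z'⁻¹ * b⁻¹ := by rw [← e2 z⁻¹]; group
    _ = _ := by rw [← e1 b, ← e2 a⁻¹]; group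

section Defs

variable (Q : Type u) [Group Q]

/-- The standard free presentation. -/
def pres : FreeGroup Q →* Q := FreeGroup.lift id

/-- The subgroup `[R, F]`. -/
def relComm : Subgroup (FreeGroup Q) := ⁅(pres Q).ker, (⊤ : Subgroup (FreeGroup Q))⁆

instance relComm_normal : (relComm Q).Normal := by unfold relComm; infer_instance

theorem relComm_le_ker : relComm Q ≤ (pres Q).ker := Subgroup.commutator_le_left _ _

/-- The free central extension `F/[F,R]` of `Q`. -/
abbrev Cov : Type u := FreeGroup Q ⧸ relComm Q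

/-- The projection of the free central extension. -/
def cov : Cov Q →* Q := QuotientGroup.lift _ (pres Q) (relComm_le_ker Q)

/-- The Schur multiplier. -/
def mult : Subgroup (Cov Q) := (cov Q).ker ⊓ commutator (Cov Q)

theorem pres_surjective : Function.Surjective (pres Q) := fun q => ⟨FreeGroup.of q, by simp [pres]⟩

theorem cov_surjective : Function.Surjective (cov Q) := fun q => by
  obtain ⟨x, hx⟩ := pres_surjective Q q
  exact ⟨x, hx⟩

theorem cov_ker_le_center : (cov Q).ker ≤ Subgroup.center (Cov Q) := by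
  intro x hx
  obtain ⟨r, rfl⟩ := QuotientGroup.mk_surjective x
  rw [Subgroup.mem_center_iff]
  intro y
  obtain ⟨f, rfl⟩ := QuotientGroup.mk_surjective y
  rw [← QuotientGroup.mk_mul, ← QuotientGroup.mk_mul, QuotientGroup.eq]
  have h : ⁅r⁻¹, f⁻¹⁆ ∈ relComm Q :=
    Subgroup.commutator_mem_commutator (inv_mem (MonoidHom.mem_ker.mpr hx)) (Subgroup.mem_top _)
  rwa [show (f * r)⁻¹ * (r * f) = ⁅r⁻¹, f⁻¹⁆ by rw [commutatorElement_def]; group]

theorem mult_le_ker : mult Q ≤ (cov Q).ker := inf_le_left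

theorem mult_le_center : mult Q ≤ Subgroup.center (Cov Q) :=
  (mult_le_ker Q).trans (cov_ker_le_center Q)

instance ker_isMulCommutative : IsMulCommutative (cov Q).ker :=
  ⟨⟨fun a b => Subtype.ext (Subgroup.mem_center_iff.mp (cov_ker_le_center Q b.2) a)⟩⟩

instance mult_commGroup : CommGroup (mult Q) :=
  { (inferInstance : Group (mult Q)) with
    mul_comm := fun a b => Subtype.ext (Subgroup.mem_center_iff.mp (mult_le_center Q b.2) a) }

/-- The abelianization map `F/[F,R] → ℤ^Q`. -/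
noncomputable def abHom : Cov Q →* Multiplicative (Q →₀ ℤ) :=
  QuotientGroup.lift _ (FreeGroup.lift fun q => Multiplicative.ofAdd (Finsupp.single q 1)) (by
    refine (Subgroup.commutator_mono le_top le_rfl).trans ?_
    rw [← commutator_def]
    exact Abelianization.commutator_subset_ker _)

theorem abHom_ker : (abHom Q).ker = commutator (Cov Q) := by
  refine le_antisymm ?_ (Abelianization.commutator_subset_ker _)
  intro x hx
  obtain ⟨f, rfl⟩ := QuotientGroup.mk_surjective x
  let g : (Q →₀ ℤ) →+ Additive (Abelianization (FreeGroup Q)) :=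
    Finsupp.liftAddHom fun q => zmultiplesHom _ (Additive.ofMul (Abelianization.of (FreeGroup.of q)))
  have key : (AddMonoidHom.toMultiplicativeLeft g).comp
      (FreeGroup.lift fun q : Q => Multiplicative.ofAdd (Finsupp.single q (1 : ℤ))) =
        Abelianization.of := by
    ext q
    simp [g, AddMonoidHom.toMultiplicativeLeft]
  have h1 : Abelianization.of f = 1 := by
    rw [← key, MonoidHom.comp_apply]
    have : FreeGroup.lift (fun q : Q => Multiplicative.ofAdd (Finsupp.single q (1 : ℤ))) f = 1 := hx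
    rw [this, map_one]
  have h2 : f ∈ commutator (FreeGroup Q) := by
    rwa [← Abelianization.ker_of, MonoidHom.mem_ker]
  have h3 := Subgroup.mem_map_of_mem (QuotientGroup.mk' (relComm Q)) h2
  rw [commutator_def, Subgroup.map_commutator, Subgroup.map_top_of_surjective _
    (QuotientGroup.mk'_surjective _)] at h3
  exact h3

end Defs

variable {Q : Type u} [Group Q]

/-- Every map from `Q` to the quotient of a central extension lifts to `Cov Q`. -/
theorem exists_lift {Δ : Type v} {Q₂ : Type w} [Group Δ] [Group Q₂] (σ : Δ →* Q₂)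
    (hσ : σ.ker ≤ Subgroup.center Δ) (f : Q →* Q₂) (hf : ∀ q, f q ∈ σ.range) :
    ∃ β : Cov Q →* Δ, σ.comp β = f.comp (cov Q) := by
  choose s hs using fun q => hf q
  let b : FreeGroup Q →* Δ := FreeGroup.lift s
  have hb : σ.comp b = f.comp (pres Q) := by
    ext q
    simp [b, pres, hs]
  have hle : relComm Q ≤ b.ker := by
    rw [relComm, Subgroup.commutator_le]
    intro r hr x _
    rw [MonoidHom.mem_ker, map_commutatorElement, commutatorElement_eq_one_iff_mul_comm]
    have hr' : b r ∈ σ.ker := by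
      rw [MonoidHom.mem_ker, ← MonoidHom.comp_apply, hb, MonoidHom.comp_apply,
        MonoidHom.mem_ker.mp hr, map_one]
    exact (Subgroup.mem_center_iff.mp (hσ hr') (b x)).symm
  refine ⟨QuotientGroup.lift _ b hle, ?_⟩
  ext x
  exact DFunLike.congr_fun hb (FreeGroup.of x)

/-- A central extension of `Q` receives a map from `Cov Q` over `Q`. -/
theorem exists_lift_id {Δ : Type v} [Group Δ] (σ : Δ →* Q) (hs : Function.Surjective σ)
    (hσ : σ.ker ≤ Subgroup.center Δ) : ∃ β : Cov Q →* Δ, σ.comp β = cov Q := by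
  obtain ⟨β, hβ⟩ := exists_lift σ hσ (MonoidHom.id Q) fun q => hs q
  exact ⟨β, by rw [hβ, MonoidHom.id_comp]⟩

theorem range_sup_ker {Δ : Type v} [Group Δ] {σ : Δ →* Q} {β : Cov Q →* Δ}
    (hβ : σ.comp β = cov Q) : β.range ⊔ σ.ker = ⊤ := by
  rw [eq_top_iff]
  intro d _
  obtain ⟨x, hx⟩ := cov_surjective Q (σ d)
  rw [← mul_inv_cancel_left (β x) d]
  refine Subgroup.mul_mem_sup ⟨x, rfl⟩ ?_
  rw [MonoidHom.mem_ker, map_mul, map_inv, ← MonoidHom.comp_apply, hβ, hx, inv_mul_cancel]

theorem commutator_eq_map {Δ : Type v} [Group Δ] {σ : Δ →* Q} (hσ : σ.ker ≤ Subgroup.center Δ)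
    {β : Cov Q →* Δ} (hβ : σ.comp β = cov Q) : commutator Δ = (commutator (Cov Q)).map β := by
  refine le_antisymm ?_ ?_
  · rw [commutator_def, Subgroup.commutator_le]
    intro a _ b _
    have key : ∀ d : Δ, ∃ x, ∃ z ∈ Subgroup.center Δ, d = β x * z := by
      intro d
      obtain ⟨x, hx⟩ := cov_surjective Q (σ d)
      refine ⟨x, (β x)⁻¹ * d, hσ ?_, by group⟩
      rw [MonoidHom.mem_ker, map_mul, map_inv, ← MonoidHom.comp_apply, hβ, hx, inv_mul_cancel]
    obtain ⟨x, z, hz, rfl⟩ := key a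
    obtain ⟨y, z', hz', rfl⟩ := key b
    have e1 := Subgroup.mem_center_iff.mp hz
    have e2 := Subgroup.mem_center_iff.mp hz'
    have hc : ⁅β x * z, β y * z'⁆ = ⁅β x, β y⁆ := by
      rw [commutatorElement_def, commutatorElement_def, mul_inv_rev, mul_inv_rev]
      calc β x * z * (β y * z') * (z⁻¹ * (β x)⁻¹) * (z'⁻¹ * (β y)⁻¹)
          = β x * z * β y * (z' * z⁻¹) * (β x)⁻¹ * z'⁻¹ * (β y)⁻¹ := by group
        _ = β x * (z * β y) * z⁻¹ * (z' * (β x)⁻¹) * z'⁻¹ * (β y)⁻¹ := by
            rw [← e2 z⁻¹]; group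
        _ = _ := by rw [← e1 (β y), ← e2 (β x)⁻¹]; group
    rw [hc, ← map_commutatorElement]
    exact Subgroup.mem_map_of_mem β
      (Subgroup.commutator_mem_commutator (Subgroup.mem_top x) (Subgroup.mem_top y))
  · rw [commutator_def, Subgroup.map_commutator, commutator_def]
    exact Subgroup.commutator_mono le_top le_top

/-- The stem part of a central extension is the image of the multiplier. -/
theorem map_mult {Δ : Type v} [Group Δ] {σ : Δ →* Q} (hσ : σ.ker ≤ Subgroup.center Δ)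
    {β : Cov Q →* Δ} (hβ : σ.comp β = cov Q) :
    (mult Q).map β = σ.ker ⊓ commutator Δ := by
  rw [commutator_eq_map hσ hβ]
  refine le_antisymm ?_ ?_
  · rintro _ ⟨x, ⟨hx1, hx2⟩, rfl⟩
    refine ⟨?_, Subgroup.mem_map_of_mem β hx2⟩
    show σ (β x) = 1
    rw [← MonoidHom.comp_apply, hβ]
    exact hx1
  · rintro _ ⟨hd, x, hx, rfl⟩
    refine Subgroup.mem_map_of_mem β ⟨?_, hx⟩
    show cov Q x = 1
    rw [← hβ]
    exact hd

theorem stem_map_mult {Δ : Type v} [Group Δ] {σ : Δ →* Q} (hσ : Cfsg.IsStemExtension σ)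
    {β : Cov Q →* Δ} (hβ : σ.comp β = cov Q) : (mult Q).map β = σ.ker := by
  rw [map_mult hσ.2.1 hβ, inf_eq_left.mpr hσ.2.2]

theorem stem_surjective {Δ : Type v} [Group Δ] {σ : Δ →* Q} (hσ : Cfsg.IsStemExtension σ)
    {β : Cov Q →* Δ} (hβ : σ.comp β = cov Q) : Function.Surjective β := by
  rw [← MonoidHom.range_eq_top, eq_top_iff, ← range_sup_ker hβ, sup_le_iff]
  exact ⟨le_rfl, (stem_map_mult hσ hβ).ge.trans (Subgroup.map_le_range _ _)⟩

/-- The map from the multiplier to the kernel of a central extension. -/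
def multMap {Δ : Type v} [Group Δ] {σ : Δ →* Q} {β : Cov Q →* Δ} (hβ : σ.comp β = cov Q) :
    mult Q →* σ.ker :=
  (β.comp (mult Q).subtype).codRestrict _ fun x => by
    show σ (β x) = 1
    rw [← MonoidHom.comp_apply, hβ]
    exact mult_le_ker Q x.2

theorem multMap_surjective {Δ : Type v} [Group Δ] {σ : Δ →* Q} (hσ : Cfsg.IsStemExtension σ)
    {β : Cov Q →* Δ} (hβ : σ.comp β = cov Q) : Function.Surjective (multMap hβ) := by
  rintro ⟨d, hd⟩
  obtain ⟨x, hx, hxd⟩ := (stem_map_mult hσ hβ).ge hd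
  exact ⟨⟨x, hx⟩, Subtype.ext hxd⟩

variable [Finite Q]

instance finite_commutatorSet : Finite (commutatorSet (Cov Q)) := by
  choose s hs using cov_surjective Q
  have hsub : commutatorSet (Cov Q) ⊆ Set.range fun t : Q × Q => ⁅s t.1, s t.2⁆ := by
    rintro _ ⟨a, b, rfl⟩
    refine ⟨(cov Q a, cov Q b), ?_⟩
    have key : ∀ a : Cov Q, ∃ z ∈ Subgroup.center (Cov Q), a = s (cov Q a) * z := fun a =>
      ⟨(s (cov Q a))⁻¹ * a, cov_ker_le_center Q (by simp [MonoidHom.mem_ker, hs]), by group⟩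
    obtain ⟨z, hz, ha⟩ := key a
    obtain ⟨z', hz', hb⟩ := key b
    have e1 := Subgroup.mem_center_iff.mp hz
    have e2 := Subgroup.mem_center_iff.mp hz'
    set x := s (cov Q a)
    set y := s (cov Q b)
    show ⁅x, y⁆ = ⁅a, b⁆
    rw [ha, hb, commutatorElement_def, commutatorElement_def, mul_inv_rev, mul_inv_rev]
    calc x * y * x⁻¹ * y⁻¹ = x * (y * z) * z⁻¹ * (x⁻¹ * z') * z'⁻¹ * y⁻¹ := by group
      _ = x * (z * y) * z⁻¹ * (z' * x⁻¹) * z'⁻¹ * y⁻¹ := by rw [e1 y, e2 x⁻¹]
      _ = x * z * y * (z⁻¹ * z') * x⁻¹ * z'⁻¹ * y⁻¹ := by group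
      _ = _ := by rw [e2 z⁻¹]; group
  exact ((Set.finite_range _).subset hsub).to_subtype

instance finite_mult : Finite (mult Q) :=
  Finite.of_injective (fun x : mult Q => (⟨x, x.2.2⟩ : commutator (Cov Q)))
    fun _ _ h => Subtype.ext (congrArg (fun z : commutator (Cov Q) => (z : Cov Q)) h)

/-- Complements of the multiplier in the kernel can be chosen inside any supplement. -/
theorem exists_complement {L : Subgroup (Cov Q)} (hL : L ≤ (cov Q).ker)
    (hsup : (cov Q).ker ≤ L ⊔ mult Q) :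
    ∃ C ≤ L, C ⊓ mult Q = ⊥ ∧ C ⊔ mult Q = (cov Q).ker := by
  letI : CommGroup L := { (inferInstance : Group L) with
    mul_comm := fun a b => Subtype.ext (Subgroup.mem_center_iff.mp (cov_ker_le_center Q (hL b.2)) a) }
  let f₀ : Additive L →+ (Q →₀ ℤ) := MonoidHom.toAdditiveLeft ((abHom Q).comp L.subtype)
  let f : Additive L →ₗ[ℤ] (Q →₀ ℤ) := f₀.toIntLinearMap
  obtain ⟨s, hs⟩ := Module.projective_lifting_property f.rangeRestrict LinearMap.id
    f.surjective_rangeRestrict
  let C : Subgroup (Cov Q) :=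
    (L.subtype.comp (AddMonoidHom.toMultiplicativeLeft s.toAddMonoidHom)).range
  have hCL : C ≤ L := by
    rintro _ ⟨y, rfl⟩
    exact SetLike.coe_mem _
  have hval : ∀ y, Multiplicative.toAdd (abHom Q ((Additive.toMul (s y) : L) : Cov Q)) = (y : Q →₀ ℤ) :=
    fun y => congrArg Subtype.val (LinearMap.congr_fun hs y)
  refine ⟨C, hCL, ?_, le_antisymm (sup_le (hCL.trans hL) (mult_le_ker Q)) ?_⟩
  · rw [eq_bot_iff]
    rintro _ ⟨⟨y, rfl⟩, hy⟩
    have h1 : abHom Q ((Additive.toMul (s (Multiplicative.toAdd y)) : L) : Cov Q) = 1 :=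
      (abHom_ker Q).ge hy.2
    have h2 := hval (Multiplicative.toAdd y)
    rw [h1] at h2
    have h3 : Multiplicative.toAdd y = 0 := Subtype.ext h2.symm
    show ((Additive.toMul (s (Multiplicative.toAdd y)) : L) : Cov Q) = 1
    rw [h3, map_zero]
    rfl
  · refine hsup.trans (sup_le ?_ le_sup_right)
    intro l hl
    set y := f.rangeRestrict (Additive.ofMul (⟨l, hl⟩ : L)) with hy
    set c : Cov Q := ((Additive.toMul (s y) : L) : Cov Q) with hc
    have hcC : c ∈ C := ⟨Multiplicative.ofAdd y, rfl⟩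
    have hm : c⁻¹ * l ∈ mult Q := by
      refine ⟨(cov Q).ker.mul_mem ((cov Q).ker.inv_mem (hL (hCL hcC))) (hL hl), ?_⟩
      rw [← abHom_ker]
      show abHom Q (c⁻¹ * l) = 1
      have h2 : abHom Q c = abHom Q l := Multiplicative.toAdd.injective (hval y)
      rw [map_mul, map_inv, h2, inv_mul_cancel]
    rw [← mul_inv_cancel_left c l]
    exact Subgroup.mul_mem_sup hcC hm

/-- Every supplement yields a covering group. -/
theorem exists_cover {L : Subgroup (Cov Q)} (hL : L ≤ (cov Q).ker)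
    (hsup : (cov Q).ker ≤ L ⊔ mult Q) :
    ∃ (C : Subgroup (Cov Q)) (_ : C.Normal) (_ : Finite (Cov Q ⧸ C)) (σ : Cov Q ⧸ C →* Q),
      C ≤ L ∧ σ.comp (QuotientGroup.mk' C) = cov Q ∧ Cfsg.IsStemExtension σ ∧
        Nonempty (mult Q ≃* σ.ker) := by
  obtain ⟨C, hCL, hinf, hjoin⟩ := exists_complement hL hsup
  have hCk : C ≤ (cov Q).ker := hCL.trans hL
  haveI hn : C.Normal := ⟨fun c hc g => by
    rwa [Subgroup.mem_center_iff.mp (cov_ker_le_center Q (hCk hc)) g, mul_inv_cancel_right]⟩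
  let σ : Cov Q ⧸ C →* Q := QuotientGroup.lift C (cov Q) hCk
  have hcomp : σ.comp (QuotientGroup.mk' C) = cov Q := by ext; rfl
  have hsurj : Function.Surjective σ := fun q => by
    obtain ⟨x, hx⟩ := cov_surjective Q q
    exact ⟨QuotientGroup.mk' C x, hx⟩
  have hker : σ.ker = (mult Q).map (QuotientGroup.mk' C) := by
    refine le_antisymm ?_ ?_
    · intro d hd
      obtain ⟨x, rfl⟩ := QuotientGroup.mk_surjective d
      have hx : x ∈ C ⊔ mult Q := hjoin.ge hd
      obtain ⟨c, hc, m, hm, rfl⟩ := Subgroup.mem_sup_of_normal_left.mp hx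
      refine ⟨m, hm, ?_⟩
      show QuotientGroup.mk' C m = QuotientGroup.mk' C (c * m)
      rw [map_mul, show QuotientGroup.mk' C c = 1 from (QuotientGroup.eq_one_iff c).mpr hc, one_mul]
    · rintro _ ⟨m, hm, rfl⟩
      exact mult_le_ker Q hm
  have hstem : Cfsg.IsStemExtension σ := by
    refine ⟨hsurj, ?_, ?_⟩
    · rw [hker]
      rintro _ ⟨m, hm, rfl⟩
      rw [Subgroup.mem_center_iff]
      intro y
      obtain ⟨x, rfl⟩ := QuotientGroup.mk'_surjective C y
      rw [← map_mul, ← map_mul, Subgroup.mem_center_iff.mp (mult_le_center Q hm) x]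
    · rw [hker]
      refine (Subgroup.map_mono inf_le_right).trans ?_
      rw [commutator_def, Subgroup.map_commutator, commutator_def]
      exact Subgroup.commutator_mono le_top le_top
  have hbij : Function.Bijective (multMap hcomp) := by
    refine ⟨(injective_iff_map_eq_one _).mpr fun x hx => Subtype.ext ?_, multMap_surjective hstem hcomp⟩
    have : (x : Cov Q) ∈ C ⊓ mult Q := ⟨(QuotientGroup.eq_one_iff _).mp (congrArg Subtype.val hx), x.2⟩
    rwa [hinf, Subgroup.mem_bot] at this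
  haveI : Finite σ.ker := Finite.of_surjective _ hbij.2
  haveI : Finite ((Cov Q ⧸ C) ⧸ σ.ker) :=
    Finite.of_equiv Q (QuotientGroup.quotientKerEquivOfSurjective σ hsurj).symm.toEquiv
  have hfin : Finite (Cov Q ⧸ C) :=
    Finite.of_equiv _ (Subgroup.groupEquivQuotientProdSubgroup (s := σ.ker)).symm
  exact ⟨C, hn, hfin, σ, hCL, hcomp, hstem, ⟨MulEquiv.ofBijective _ hbij⟩⟩

theorem hasSchurMultiplier_mult : Cfsg.HasSchurMultiplier Q (mult Q) := by
  constructor
  · obtain ⟨C, hn, hf, σ, -, -, hst, ⟨e⟩⟩ := exists_cover (Q := Q) le_rfl le_sup_left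
    exact ⟨_, inferInstance, hf, σ, hst, ⟨e.symm⟩⟩
  · intro Γ _ _ σ hσ
    obtain ⟨β, hβ⟩ := exists_lift_id σ hσ.1 hσ.2.1
    exact ⟨multMap hβ, multMap_surjective hσ hβ⟩

theorem hasSchurMultiplier_of_equiv {A : Type v} [CommGroup A] (e : A ≃* mult Q) :
    Cfsg.HasSchurMultiplier Q A := by
  obtain ⟨⟨Γ, i1, i2, σ, hσ, ⟨e'⟩⟩, h⟩ := hasSchurMultiplier_mult (Q := Q)
  refine ⟨⟨Γ, i1, i2, σ, hσ, ⟨e'.trans e.symm⟩⟩, fun Γ' _ _ σ' hσ' => ?_⟩
  obtain ⟨π, hπ⟩ := h Γ' σ' hσ'
  exact ⟨π.comp e.toMonoidHom, hπ.comp e.surjective⟩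

/-- Uniqueness of the Schur multiplier. -/
theorem nonempty_equiv {A : Type v} [CommGroup A] (hA : Cfsg.HasSchurMultiplier Q A) :
    Nonempty (A ≃* mult Q) := by
  obtain ⟨⟨Γ, _, _, σ, hσ, ⟨e⟩⟩, h⟩ := hA
  haveI : Finite A := Finite.of_equiv _ e.toEquiv
  obtain ⟨β, hβ⟩ := exists_lift_id σ hσ.1 hσ.2.1
  obtain ⟨⟨Γ', _, _, σ', hσ', ⟨e'⟩⟩, -⟩ := hasSchurMultiplier_mult (Q := Q)
  obtain ⟨π, hπ⟩ := h Γ' σ' hσ'
  have h1 := Nat.card_le_card_of_surjective _ (e.surjective.comp (multMap_surjective hσ hβ))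
  have hf : Function.Surjective (e'.toMonoidHom.comp π) := e'.surjective.comp hπ
  exact ⟨MulEquiv.ofBijective _ ((Nat.bijective_iff_surjective_and_card _).mpr
    ⟨hf, le_antisymm h1 (Nat.card_le_card_of_surjective _ hf)⟩)⟩

theorem finite_of_hasSchurMultiplier {A : Type v} [CommGroup A]
    (hA : Cfsg.HasSchurMultiplier Q A) : Finite A :=
  Finite.of_equiv _ (nonempty_equiv hA).some.symm.toEquiv

theorem hasCyclicSchurMultiplier_one_iff : Cfsg.HasCyclicSchurMultiplier Q 1 ↔ mult Q = ⊥ := by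
  constructor
  · intro h
    obtain ⟨e⟩ := nonempty_equiv h
    rw [← Subgroup.card_eq_one, ← Nat.card_congr e.toEquiv]
    simp
  · intro h
    haveI : Subsingleton (mult Q) := by rw [h]; infer_instance
    exact hasSchurMultiplier_of_equiv
      { toFun := fun _ => 1, invFun := fun _ => 1,
        left_inv := fun _ => Subsingleton.elim _ _, right_inv := fun _ => Subsingleton.elim _ _,
        map_mul' := fun _ _ => Subsingleton.elim _ _ }

theorem multMap_bijective_of_card {A : Type w} [CommGroup A] (hA : Cfsg.HasSchurMultiplier Q A)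
    {Δ : Type v} [Group Δ] {σ : Δ →* Q} (hσ : Cfsg.IsStemExtension σ) (e : σ.ker ≃* A)
    {β : Cov Q →* Δ} (hβ : σ.comp β = cov Q) : Function.Bijective (multMap hβ) := by
  obtain ⟨e'⟩ := nonempty_equiv hA
  exact (Nat.bijective_iff_surjective_and_card _).mpr
    ⟨multMap_surjective hσ hβ, (Nat.card_congr (e.trans e').toEquiv).symm⟩

omit [Finite Q] in
/-- A stem extension to which the multiplier maps injectively covers all stem extensions. -/
theorem exists_surjection_of_injective {Γ : Type v} [Group Γ] {σ : Γ →* Q}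
    (hσ : Cfsg.IsStemExtension σ) {β : Cov Q →* Γ} (hβ : σ.comp β = cov Q)
    (hinj : Function.Injective (multMap hβ)) {Δ : Type w} [Group Δ] {τ : Δ →* Q}
    (hτ : Cfsg.IsStemExtension τ) : ∃ π : σ.ker →* τ.ker, Function.Surjective π := by
  obtain ⟨γ, hγ⟩ := exists_lift_id τ hτ.1 hτ.2.1
  exact ⟨(multMap hγ).comp (MulEquiv.ofBijective _ ⟨hinj, multMap_surjective hσ hβ⟩).symm.toMonoidHom,
    (multMap_surjective hτ hγ).comp (MulEquiv.surjective _)⟩

end Cfsg.Agent.SchurMult
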