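import Mathlib
import Cfsg.Agent.Lib.SchurMult.Cover

/-!
# Heisenberg extensions and the multiplier of a product of two cyclic groups
-/

set_option autoImplicit false
set_option linter.style.haveILetI false

open scoped commutatorElement

universe u

namespace Cfsg.Agent.SchurMult

variable {m n : ℕ}

/-- The Heisenberg extension of `ℤ/m × ℤ/n` by `ℤ/n`. -/
@[ext] structure Heis (m n : ℕ) (h : n ∣ m) : Type where
  a : ZMod m
  b : ZMod n
  c : ZMod n

namespace Heis

variable {h : n ∣ m}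

instance : Group (Heis m n h) where
  mul x y := ⟨x.a + y.a, x.b + y.b, x.c + y.c + ZMod.castHom h (ZMod n) x.a * y.b⟩
  one := ⟨0, 0, 0⟩
  inv x := ⟨-x.a, -x.b, -x.c + ZMod.castHom h (ZMod n) x.a * x.b⟩
  mul_assoc x y z := by
    refine Heis.ext (add_assoc _ _ _) (add_assoc _ _ _) ?_
    show x.c + y.c + ZMod.castHom h (ZMod n) x.a * y.b + z.c +
        ZMod.castHom h (ZMod n) (x.a + y.a) * z.b =
      x.c + (y.c + z.c + ZMod.castHom h (ZMod n) y.a * z.b) +
        ZMod.castHom h (ZMod n) x.a * (y.b + z.b)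
    rw [map_add]; ring
  one_mul x := by
    refine Heis.ext (zero_add _) (zero_add _) ?_
    show 0 + x.c + ZMod.castHom h (ZMod n) 0 * x.b = x.c
    rw [map_zero]; ring
  mul_one x := by
    refine Heis.ext (add_zero _) (add_zero _) ?_
    show x.c + 0 + ZMod.castHom h (ZMod n) x.a * 0 = x.c
    ring
  inv_mul_cancel x := by
    refine Heis.ext (neg_add_cancel _) (neg_add_cancel _) ?_
    show -x.c + ZMod.castHom h (ZMod n) x.a * x.b + x.c + ZMod.castHom h (ZMod n) (-x.a) * x.b = 0
    rw [map_neg]; ring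

theorem mul_def (x y : Heis m n h) :
    x * y = ⟨x.a + y.a, x.b + y.b, x.c + y.c + ZMod.castHom h (ZMod n) x.a * y.b⟩ := rfl

/-- The projection. -/
def proj (h : n ∣ m) : Heis m n h →* Multiplicative (ZMod m × ZMod n) where
  toFun x := Multiplicative.ofAdd (x.a, x.b)
  map_one' := rfl
  map_mul' _ _ := rfl

theorem proj_surjective : Function.Surjective (proj h) := fun q => ⟨⟨(Multiplicative.toAdd q).1,
  (Multiplicative.toAdd q).2, 0⟩, rfl⟩

theorem proj_ker_le_center : (proj h).ker ≤ Subgroup.center (Heis m n h) := by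
  intro x hx
  have h1 : (x.a, x.b) = ((0, 0) : ZMod m × ZMod n) := hx
  rw [Prod.mk.injEq] at h1
  rw [Subgroup.mem_center_iff]
  intro y
  refine Heis.ext (add_comm _ _) (add_comm _ _) ?_
  show y.c + x.c + ZMod.castHom h (ZMod n) y.a * x.b = x.c + y.c + ZMod.castHom h (ZMod n) x.a * y.b
  rw [h1.1, h1.2, map_zero]; ring

theorem comm_eq : ⁅(⟨1, 0, 0⟩ : Heis m n h), (⟨0, 1, 0⟩ : Heis m n h)⁆ = (⟨0, 0, 1⟩ : Heis m n h) := by
  rw [commutatorElement_def, mul_inv_eq_iff_eq_mul, mul_inv_eq_iff_eq_mul, mul_def, mul_def, mul_def]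
  refine Heis.ext ?_ ?_ ?_ <;> simp [ZMod.cast_one h]

theorem orderOf_central : orderOf (⟨0, 0, 1⟩ : Heis m n h) = n := by
  let f : Multiplicative (ZMod n) →* Heis m n h :=
    MonoidHom.mk' (fun c => ⟨0, 0, Multiplicative.toAdd c⟩) fun c d => by
      rw [mul_def]
      refine Heis.ext ?_ ?_ ?_ <;> simp
  have hf : Function.Injective f := fun c d hcd => congrArg Heis.c hcd
  have := orderOf_injective f hf (Multiplicative.ofAdd (1 : ZMod n))
  rw [show f (Multiplicative.ofAdd (1 : ZMod n)) = ⟨0, 0, 1⟩ from rfl] at this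
  rw [this, orderOf_ofAdd_eq_addOrderOf, ZMod.addOrderOf_one]

end Heis

/-- Over a surjection of `Q` onto `ℤ/m × ℤ/n` some commutator in `Cov Q` has order a multiple
of `n`. -/
theorem dvd_orderOf_commutator {Q : Type u} [Group Q] (h : n ∣ m)
    (f : Q →* Multiplicative (ZMod m × ZMod n)) (x y : Cov Q)
    (hx : f (cov Q x) = Multiplicative.ofAdd (1, 0)) (hy : f (cov Q y) = Multiplicative.ofAdd (0, 1)) :
    n ∣ orderOf ⁅x, y⁆ := by
  obtain ⟨β, hβ⟩ := exists_lift (Heis.proj h) Heis.proj_ker_le_center f fun q => Heis.proj_surjective _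
  have key : ∀ (z : Cov Q) (w : Heis m n h), Heis.proj h w = f (cov Q z) →
      w⁻¹ * β z ∈ Subgroup.center (Heis m n h) := fun z w hw => Heis.proj_ker_le_center (by
    rw [MonoidHom.mem_ker, map_mul, map_inv, hw, show Heis.proj h (β z) = f (cov Q z) from DFunLike.congr_fun hβ z,
      inv_mul_cancel])
  set u : Heis m n h := ⟨1, 0, 0⟩
  set v : Heis m n h := ⟨0, 1, 0⟩
  have hu := key x u (by rw [hx]; rfl)
  have hv := key y v (by rw [hy]; rfl)
  have hc : β ⁅x, y⁆ = (⟨0, 0, 1⟩ : Heis m n h) := by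
    rw [map_commutatorElement, ← Heis.comm_eq, ← commutator_mul_central u v hu hv,
      mul_inv_cancel_left, mul_inv_cancel_left]
  exact (Heis.orderOf_central (h := h) ▸ hc ▸ orderOf_map_dvd β ⁅x, y⁆)

/-- A commutator of `Cov Q` lies in the multiplier when `Q` is commutative. -/
theorem commutator_mem_mult {Q : Type u} [Group Q] (hQ : ∀ a b : Q, a * b = b * a) (x y : Cov Q) :
    ⁅x, y⁆ ∈ mult Q :=
  ⟨show cov Q ⁅x, y⁆ = 1 by rw [map_commutatorElement, commutatorElement_eq_one_iff_mul_comm]; exact hQ _ _,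
    Subgroup.commutator_mem_commutator (Subgroup.mem_top x) (Subgroup.mem_top y)⟩

theorem mult_eq_bot_of_isCyclic {Q : Type u} [Group Q] [IsCyclic Q] : mult Q = ⊥ := by
  rw [eq_bot_iff]
  refine inf_le_right.trans ?_
  rw [commutator_def, Subgroup.commutator_le]
  intro a _ b _
  rw [Subgroup.mem_bot, commutatorElement_eq_one_iff_mul_comm]
  exact commutative_of_cyclic_center_quotient (cov Q) (cov_ker_le_center Q) a b

end Cfsg.Agent.SchurMult
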