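import Mathlib
import Cfsg.Agent.Lib.SchurMult.Cover

/-!
# Universal covers of perfect groups
-/

set_option autoImplicit false
set_option linter.style.haveILetI false

open scoped commutatorElement

universe u v w

namespace Cfsg.Agent.SchurMult

variable {Q : Type u} [Group Q]

/-- Two maps of a perfect group into a central extension agreeing modulo the kernel are equal. -/
theorem eq_of_comp_eq {G : Type v} [Group G] (hG : Group.IsPerfect G) {X : Type w} [Group X]
    {ξ : X →* Q} (hc : ξ.ker ≤ Subgroup.center X) {η η' : G →* X} (h : ξ.comp η = ξ.comp η') :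
    η = η' := by
  have hz : ∀ g, (η g)⁻¹ * η' g ∈ Subgroup.center X := fun g => hc (by
    rw [MonoidHom.mem_ker, map_mul, map_inv, ← MonoidHom.comp_apply, ← MonoidHom.comp_apply, h,
      inv_mul_cancel])
  have hle : commutator G ≤ η.eqLocus η' := by
    rw [commutator_def, Subgroup.commutator_le]
    intro a _ b _
    show η ⁅a, b⁆ = η' ⁅a, b⁆
    rw [map_commutatorElement, map_commutatorElement, show η' a = η a * ((η a)⁻¹ * η' a) by group,
      show η' b = η b * ((η b)⁻¹ * η' b) by group, commutator_mul_central _ _ (hz a) (hz b)]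
  rw [hG.commutator_eq_top] at hle
  exact MonoidHom.ext fun g => hle (Subgroup.mem_top g)

theorem map_commutator_cov (hQ : Group.IsPerfect Q) :
    (commutator (Cov Q)).map (cov Q) = ⊤ := by
  rw [commutator_def, Subgroup.map_commutator, Subgroup.map_top_of_surjective _ (cov_surjective Q),
    ← commutator_def, hQ.commutator_eq_top]

theorem commutator_cov_perfect (hQ : Group.IsPerfect Q) :
    Group.IsPerfect (commutator (Cov Q)) := by
  refine Subgroup.isPerfect_iff.mpr (le_antisymm (Subgroup.commutator_le_self _) ?_)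
  conv_lhs => rw [commutator_def, Subgroup.commutator_def]
  rw [Subgroup.closure_le]
  rintro _ ⟨a, -, b, -, rfl⟩
  have key : ∀ d : Cov Q, ∃ x ∈ commutator (Cov Q), ∃ z ∈ Subgroup.center (Cov Q), d = x * z := by
    intro d
    obtain ⟨x, hx, hxd⟩ := (map_commutator_cov hQ).ge (Subgroup.mem_top (cov Q d))
    refine ⟨x, hx, x⁻¹ * d, cov_ker_le_center Q ?_, by group⟩
    rw [MonoidHom.mem_ker, map_mul, map_inv, hxd, inv_mul_cancel]
  obtain ⟨x, hx, z, hz, rfl⟩ := key a
  obtain ⟨y, hy, z', hz', rfl⟩ := key b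
  have e1 := Subgroup.mem_center_iff.mp hz
  have e2 := Subgroup.mem_center_iff.mp hz'
  have hc : ⁅x * z, y * z'⁆ = ⁅x, y⁆ := by
    rw [commutatorElement_def, commutatorElement_def, mul_inv_rev, mul_inv_rev]
    calc x * z * (y * z') * (z⁻¹ * x⁻¹) * (z'⁻¹ * y⁻¹)
        = x * z * y * (z' * z⁻¹) * x⁻¹ * z'⁻¹ * y⁻¹ := by group
      _ = x * (z * y) * z⁻¹ * (z' * x⁻¹) * z'⁻¹ * y⁻¹ := by rw [← e2 z⁻¹]; group
      _ = _ := by rw [← e1 y, ← e2 x⁻¹]; group
  show ⁅x * z, y * z'⁆ ∈ _
  rw [hc]
  exact Subgroup.commutator_mem_commutator hx hy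

theorem exists_universal_perfect [Finite Q] (hQ : Group.IsPerfect Q) :
    ∃ (G : Type u) (_ : Group G) (_ : Finite G) (π : G →* Q), Group.IsPerfect G ∧
      Function.Surjective π ∧ π.ker ≤ Subgroup.center G ∧
      ∀ (X : Type u) [Group X] (ξ : X →* Q), Function.Surjective ξ → ξ.ker ≤ Subgroup.center X →
        ∃! η : G →* X, ξ.comp η = π := by
  let π : commutator (Cov Q) →* Q := (cov Q).comp (commutator (Cov Q)).subtype
  refine ⟨commutator (Cov Q), inferInstance, inferInstance, π, commutator_cov_perfect hQ, ?_, ?_, ?_⟩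
  · intro q
    obtain ⟨x, hx, hxq⟩ := (map_commutator_cov hQ).ge (Subgroup.mem_top q)
    exact ⟨⟨x, hx⟩, hxq⟩
  · intro x hx
    rw [Subgroup.mem_center_iff]
    exact fun y => Subtype.ext (Subgroup.mem_center_iff.mp
      (cov_ker_le_center Q (show cov Q x = 1 from hx)) y)
  · intro X _ ξ hξ hc
    obtain ⟨γ, hγ⟩ := exists_lift_id ξ hξ hc
    refine ⟨γ.comp (commutator (Cov Q)).subtype, ?_, fun η hη => ?_⟩
    · show ξ.comp (γ.comp _) = π
      rw [← MonoidHom.comp_assoc, hγ]
    refine eq_of_comp_eq (commutator_cov_perfect hQ) hc ?_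
    rw [hη, ← MonoidHom.comp_assoc, hγ]

/-- A perfect central extension is universal iff its multiplier is trivial. -/
theorem universal_iff {G : Type u} {Q : Type v} [Group G] [Group Q] [Finite G]
    (hG : Group.IsPerfect G) (π : G →* Q) (hπ : Function.Surjective π)
    (hker : π.ker ≤ Subgroup.center G) :
    (∀ (X : Type u) [Group X] (ξ : X →* Q), Function.Surjective ξ → ξ.ker ≤ Subgroup.center X →
      ∃ η : G →* X, ξ.comp η = π) ↔ Cfsg.HasCyclicSchurMultiplier G 1 := by
  haveI := hG
  haveI : Finite Q := Finite.of_surjective π hπ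
  have hQ : Group.IsPerfect Q := Group.IsPerfect.ofSurjective hπ
  rw [hasCyclicSchurMultiplier_one_iff]
  constructor
  · intro huniv
    obtain ⟨⟨Γ, _, _, σ, hσ, ⟨e⟩⟩, -⟩ := hasSchurMultiplier_mult (Q := G)
    have hΓ : Group.IsPerfect Γ := by
      have h1 : commutator Γ ⊔ σ.ker = ⊤ := by
        rw [eq_top_iff]
        intro d _
        obtain ⟨x, hx, hxd⟩ : σ d ∈ (commutator Γ).map σ := by
          rw [commutator_def, Subgroup.map_commutator, Subgroup.map_top_of_surjective _ hσ.1,
            ← commutator_def, hG.commutator_eq_top]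
          exact Subgroup.mem_top _
        rw [← mul_inv_cancel_left x d]
        exact Subgroup.mul_mem_sup hx (by rw [MonoidHom.mem_ker, map_mul, map_inv, hxd, inv_mul_cancel])
      exact ⟨top_le_iff.mp (h1.ge.trans (sup_le le_rfl hσ.2.2))⟩
    have hc : (π.comp σ).ker ≤ Subgroup.center Γ := by
      intro x hx
      have h1 : ⁅⁅Subgroup.zpowers x, (⊤ : Subgroup Γ)⁆, (⊤ : Subgroup Γ)⁆ = ⊥ := by
        rw [Subgroup.commutator_eq_bot_iff_le_centralizer]
        refine le_trans ?_ (hσ.2.1.trans (Subgroup.center_le_centralizer _))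
        rw [Subgroup.commutator_le]
        rintro _ ⟨k, rfl⟩ y _
        rw [MonoidHom.mem_ker, map_commutatorElement, commutatorElement_eq_one_iff_mul_comm, map_zpow]
        exact (Subgroup.mem_center_iff.mp (zpow_mem (hker hx) k) (σ y)).symm
      have h3 := Subgroup.commutator_commutator_eq_bot_of_rotate (H₁ := ⊤) (H₂ := ⊤)
        (H₃ := Subgroup.zpowers x) (by rwa [Subgroup.commutator_comm (⊤ : Subgroup Γ)]) h1
      rw [← commutator_def, hΓ.commutator_eq_top, Subgroup.commutator_eq_bot_iff_le_centralizer] at h3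
      rw [Subgroup.mem_center_iff]
      exact fun y => (Subgroup.mem_centralizer_iff.mp (h3 (Subgroup.mem_top y)) x
        (Subgroup.mem_zpowers x)).symm
    obtain ⟨η, hη⟩ := huniv Γ (π.comp σ) (hπ.comp hσ.1) hc
    have hid : σ.comp η = MonoidHom.id G :=
      eq_of_comp_eq hG hker (by rw [← MonoidHom.comp_assoc, hη, MonoidHom.comp_id])
    have hbot : σ.ker = ⊥ := by
      have hinj : ∀ d : Γ, η (σ d) = d := by
        have : MonoidHom.id Γ = η.comp σ :=
          eq_of_comp_eq hΓ hσ.2.1 (by rw [← MonoidHom.comp_assoc, hid]; rfl)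
        exact fun d => (DFunLike.congr_fun this d).symm
      rw [Subgroup.eq_bot_iff_forall]
      intro d hd
      rw [← hinj d, MonoidHom.mem_ker.mp hd, map_one]
    rw [← Subgroup.card_eq_one, ← Nat.card_congr e.toEquiv, hbot, Subgroup.card_bot]
  · intro hM X _ ξ hξ hc
    obtain ⟨β, hβ⟩ := exists_lift_id π hπ hker
    let f : commutator (Cov Q) →* G := β.comp (commutator (Cov Q)).subtype
    have hf : Function.Surjective f := fun g => by
      obtain ⟨x, hx, hxg⟩ : g ∈ (commutator (Cov Q)).map β := by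
        rw [← commutator_eq_map hker hβ, hG.commutator_eq_top]; exact Subgroup.mem_top g
      exact ⟨⟨x, hx⟩, hxg⟩
    have hfc : f.ker ≤ Subgroup.center (commutator (Cov Q)) := by
      intro x hx
      rw [Subgroup.mem_center_iff]
      refine fun y => Subtype.ext (Subgroup.mem_center_iff.mp (cov_ker_le_center Q ?_) y)
      rw [MonoidHom.mem_ker, ← hβ, MonoidHom.comp_apply, show β x = 1 from hx, map_one]
    obtain ⟨g, hg⟩ := exists_lift_id f hf hfc
    have h0 := map_mult hfc hg
    rw [hM, Subgroup.map_bot, (commutator_cov_perfect hQ).commutator_eq_top, inf_top_eq] at h0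
    let ef := MulEquiv.ofBijective f ⟨(MonoidHom.ker_eq_bot_iff f).mp h0.symm, hf⟩
    obtain ⟨γ, hγ⟩ := exists_lift_id ξ hξ hc
    refine ⟨(γ.comp (commutator (Cov Q)).subtype).comp ef.symm.toMonoidHom, MonoidHom.ext fun x => ?_⟩
    show ξ (γ ((ef.symm x : commutator (Cov Q)) : Cov Q)) = π x
    rw [← MonoidHom.comp_apply, hγ, ← hβ, MonoidHom.comp_apply]
    exact congrArg π (ef.apply_symm_apply x)

end Cfsg.Agent.SchurMult
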