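import Mathlib
import Cfsg.Agent.Lib.SchurMult.Cover

/-!
# The Schur multiplier of a direct product
-/

set_option autoImplicit false
set_option linter.style.haveILetI false

open scoped commutatorElement

universe u v w

namespace Cfsg.Agent.SchurMult

/-- The central extension of `A × B` by `T` given by a bimultiplicative pairing. -/
@[ext] structure Twist {A : Type u} {B : Type v} {T : Type w} [Group A] [Group B] [CommGroup T]
    (b : A →* B →* T) : Type (max u v w) where
  fst : A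
  snd : B
  val : T

namespace Twist

variable {A : Type u} {B : Type v} {T : Type w} [Group A] [Group B] [CommGroup T] {b : A →* B →* T}

instance : Group (Twist b) where
  mul x y := ⟨x.fst * y.fst, x.snd * y.snd, x.val * y.val * b x.fst y.snd⟩
  one := ⟨1, 1, 1⟩
  inv x := ⟨x.fst⁻¹, x.snd⁻¹, x.val⁻¹ * b x.fst x.snd⟩
  mul_assoc x y z := by
    refine Twist.ext (mul_assoc _ _ _) (mul_assoc _ _ _) ?_
    show x.val * y.val * b x.fst y.snd * z.val * b (x.fst * y.fst) z.snd =
      x.val * (y.val * z.val * b y.fst z.snd) * b x.fst (y.snd * z.snd)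
    simp only [map_mul, MonoidHom.mul_apply]
    simp only [mul_comm, mul_left_comm, mul_assoc]
  one_mul x := by
    refine Twist.ext (one_mul _) (one_mul _) ?_
    show 1 * x.val * b 1 x.snd = x.val
    simp
  mul_one x := by
    refine Twist.ext (mul_one _) (mul_one _) ?_
    show x.val * 1 * b x.fst 1 = x.val
    simp
  inv_mul_cancel x := by
    refine Twist.ext (inv_mul_cancel _) (inv_mul_cancel _) ?_
    show x.val⁻¹ * b x.fst x.snd * x.val * b x.fst⁻¹ x.snd = 1
    rw [map_inv, MonoidHom.inv_apply]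
    rw [mul_comm x.val⁻¹ (b x.fst x.snd), mul_assoc _ x.val⁻¹ x.val, inv_mul_cancel, mul_one,
      mul_inv_cancel]

theorem mul_def (x y : Twist b) :
    x * y = ⟨x.fst * y.fst, x.snd * y.snd, x.val * y.val * b x.fst y.snd⟩ := rfl

theorem one_def : (1 : Twist b) = ⟨1, 1, 1⟩ := rfl

/-- The first embedding. -/
def inl (b : A →* B →* T) : A →* Twist b where
  toFun a := ⟨a, 1, 1⟩
  map_one' := rfl
  map_mul' x y := by rw [mul_def]; refine Twist.ext ?_ ?_ ?_ <;> simp

/-- The second embedding. -/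
def inr (b : A →* B →* T) : B →* Twist b where
  toFun c := ⟨1, c, 1⟩
  map_one' := rfl
  map_mul' x y := by rw [mul_def]; refine Twist.ext ?_ ?_ ?_ <;> simp

/-- The central embedding. -/
def inc (b : A →* B →* T) : T →* Twist b where
  toFun t := ⟨1, 1, t⟩
  map_one' := rfl
  map_mul' x y := by rw [mul_def]; refine Twist.ext ?_ ?_ ?_ <;> simp

/-- The first projection. -/
def pr₁ (b : A →* B →* T) : Twist b →* A where
  toFun x := x.fst
  map_one' := rfl
  map_mul' _ _ := rfl

/-- The second projection. -/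
def pr₂ (b : A →* B →* T) : Twist b →* B where
  toFun x := x.snd
  map_one' := rfl
  map_mul' _ _ := rfl

theorem eq_prod (x : Twist b) : x = inr b x.snd * inl b x.fst * inc b x.val := by
  refine Twist.ext ?_ ?_ ?_ <;> simp [mul_def, inl, inr, inc]

theorem comm_inl_inr (a : A) (c : B) : ⁅inl b a, inr b c⁆ = inc b (b a c) := by
  rw [commutatorElement_def, mul_inv_eq_iff_eq_mul, mul_inv_eq_iff_eq_mul, mul_def, mul_def, mul_def]
  refine Twist.ext ?_ ?_ ?_ <;> simp [inl, inr, inc]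

end Twist

section

variable {Q₁ : Type u} {Q₂ : Type v} [Group Q₁] [Group Q₂]

/-- `ab₁ ⊗ ab₂`. -/
abbrev TensorAb (Q₁ : Type u) (Q₂ : Type v) [Group Q₁] [Group Q₂] : Type (max u v) :=
  Multiplicative (TensorProduct ℤ (Additive (Abelianization Q₁)) (Additive (Abelianization Q₂)))

/-- The tensor pairing of the abelianizations, on the covers. -/
noncomputable def tensorPairing (Q₁ : Type u) (Q₂ : Type v) [Group Q₁] [Group Q₂] :
    Cov Q₁ →* Cov Q₂ →* TensorAb Q₁ Q₂ where
  toFun x :=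
    { toFun := fun y => Multiplicative.ofAdd (TensorProduct.tmul ℤ
        (Additive.ofMul (Abelianization.of (cov Q₁ x))) (Additive.ofMul (Abelianization.of (cov Q₂ y))))
      map_one' := by simp
      map_mul' := fun y z => by simp [TensorProduct.tmul_add] }
  map_one' := by ext y; simp
  map_mul' x x' := by ext y; simp [TensorProduct.add_tmul]

theorem tensor_induction {P : TensorAb Q₁ Q₂ → Prop} (h1 : P 1)
    (hp : ∀ x y, P (tensorPairing Q₁ Q₂ x y)) (hm : ∀ s t, P s → P t → P (s * t))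
    (t : TensorAb Q₁ Q₂) : P t := by
  obtain ⟨t, rfl⟩ := Multiplicative.ofAdd.surjective t
  induction t using TensorProduct.induction_on with
  | zero => exact h1
  | tmul x y =>
    obtain ⟨a, ha⟩ := QuotientGroup.mk'_surjective (commutator Q₁) (Additive.toMul x)
    obtain ⟨c, hc⟩ := QuotientGroup.mk'_surjective (commutator _) (Additive.toMul y)
    obtain ⟨a', rfl⟩ := cov_surjective Q₁ a
    obtain ⟨c', rfl⟩ := cov_surjective Q₂ c
    have := hp a' c'
    have hx : x = Additive.ofMul (Abelianization.of (cov Q₁ a')) := congrArg Additive.ofMul ha.symm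
    have hy : y = Additive.ofMul (Abelianization.of (cov Q₂ c')) := congrArg Additive.ofMul hc.symm
    rw [hx, hy]
    exact this
  | add s t hs ht =>
    rw [ofAdd_add]
    exact hm _ _ hs ht

variable [Finite Q₁] [Finite Q₂]

theorem nonempty_mult_prod_equiv :
    Nonempty (mult Q₁ × mult Q₂ × TensorAb Q₁ Q₂ ≃* mult (Q₁ × Q₂)) := by
  set b := tensorPairing Q₁ Q₂ with hb
  -- the lower bound
  let σ : Twist b →* Q₁ × Q₂ := ((cov Q₁).comp (Twist.pr₁ b)).prod ((cov Q₂).comp (Twist.pr₂ b))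
  have hσs : Function.Surjective σ := fun q => by
    obtain ⟨x, hx⟩ := cov_surjective Q₁ q.1
    obtain ⟨y, hy⟩ := cov_surjective Q₂ q.2
    exact ⟨⟨x, y, 1⟩, Prod.ext hx hy⟩
  have hbker : ∀ x y, cov Q₁ x = 1 ∨ cov Q₂ y = 1 → b x y = 1 := fun x y h => by
    rcases h with h | h <;> simp [b, tensorPairing, h]
  have hσ : σ.ker ≤ Subgroup.center (Twist b) := by
    intro x hx
    have h1 : cov Q₁ x.fst = 1 := congrArg Prod.fst hx
    have h2 : cov Q₂ x.snd = 1 := congrArg Prod.snd hx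
    rw [Subgroup.mem_center_iff]
    intro y
    refine Twist.ext (Subgroup.mem_center_iff.mp (cov_ker_le_center Q₁ h1) _)
      (Subgroup.mem_center_iff.mp (cov_ker_le_center Q₂ h2) _) ?_
    show y.val * x.val * b y.fst x.snd = x.val * y.val * b x.fst y.snd
    rw [hbker _ _ (Or.inr h2), hbker _ _ (Or.inl h1), mul_comm y.val]
  obtain ⟨β, hβ⟩ := exists_lift_id σ hσs hσ
  have h0 := map_mult hσ hβ
  let Φ : mult (Q₁ × Q₂) →* mult Q₁ × mult Q₂ × TensorAb Q₁ Q₂ := MonoidHom.mk'
    (fun x => (⟨(β x).fst, congrArg Prod.fst (MonoidHom.mem_ker.mp (h0.le (Subgroup.mem_map_of_mem β x.2)).1),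
        by
          have h := (h0.le (Subgroup.mem_map_of_mem β x.2)).2
          have h' := Abelianization.commutator_subset_ker (Abelianization.of.comp (Twist.pr₁ b)) h
          rw [← MonoidHom.comap_ker, Abelianization.ker_of] at h'
          exact h'⟩,
      ⟨(β x).snd, congrArg Prod.snd (MonoidHom.mem_ker.mp (h0.le (Subgroup.mem_map_of_mem β x.2)).1),
        by
          have h := (h0.le (Subgroup.mem_map_of_mem β x.2)).2
          have h' := Abelianization.commutator_subset_ker (Abelianization.of.comp (Twist.pr₂ b)) h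
          rw [← MonoidHom.comap_ker, Abelianization.ker_of] at h'
          exact h'⟩, (β x).val))
    fun x y => by
      have h1 : cov Q₁ (β x).fst = 1 :=
        congrArg Prod.fst (MonoidHom.mem_ker.mp (h0.le (Subgroup.mem_map_of_mem β x.2)).1)
      refine Prod.ext (Subtype.ext ?_) (Prod.ext (Subtype.ext ?_) ?_)
      · show (β (x * y : mult (Q₁ × Q₂))).fst = _
        rw [Subgroup.coe_mul, map_mul]; rfl
      · show (β (x * y : mult (Q₁ × Q₂))).snd = _
        rw [Subgroup.coe_mul, map_mul]; rfl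
      · show (β (x * y : mult (Q₁ × Q₂))).val = (β x).val * (β y).val
        rw [Subgroup.coe_mul, map_mul, Twist.mul_def]
        show _ * _ * b (β x).fst (β y).snd = _
        rw [hbker _ _ (Or.inl h1), mul_one]
  have hΦ : Function.Surjective Φ := by
    rintro ⟨m₁, m₂, t⟩
    have hin : ∀ {X : Type (max u v)} [Group X] {A : Type u} [Group A] (f : A →* X), ∀ a ∈ commutator A,
        f a ∈ commutator X := fun {X} _ {A} _ f a ha => by
      have h := Abelianization.commutator_subset_ker (Abelianization.of.comp f) ha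
      rwa [← MonoidHom.comap_ker, Abelianization.ker_of] at h
    have hin' : ∀ {X : Type (max u v)} [Group X] {A : Type v} [Group A] (f : A →* X), ∀ a ∈ commutator A,
        f a ∈ commutator X := fun {X} _ {A} _ f a ha => by
      have h := Abelianization.commutator_subset_ker (Abelianization.of.comp f) ha
      rwa [← MonoidHom.comap_ker, Abelianization.ker_of] at h
    have hmem : (⟨m₁, m₂, t⟩ : Twist b) ∈ σ.ker ⊓ commutator (Twist b) := by
      refine ⟨Prod.ext m₁.2.1 m₂.2.1, ?_⟩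
      show (⟨(m₁ : Cov Q₁), (m₂ : Cov Q₂), t⟩ : Twist b) ∈ commutator (Twist b)
      rw [Twist.eq_prod (⟨(m₁ : Cov Q₁), (m₂ : Cov Q₂), t⟩ : Twist b)]
      refine mul_mem (mul_mem (hin' _ _ m₂.2.2) (hin _ _ m₁.2.2)) ?_
      show Twist.inc b t ∈ _
      induction t using tensor_induction with
      | h1 => rw [map_one]; exact one_mem _
      | hp x y =>
        rw [← Twist.comm_inl_inr]
        exact Subgroup.commutator_mem_commutator (Subgroup.mem_top _) (Subgroup.mem_top _)
      | hm s t hs ht => rw [map_mul]; exact mul_mem hs ht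
    obtain ⟨x, hx, hxm⟩ := h0.ge hmem
    exact ⟨⟨x, hx⟩, Prod.ext (Subtype.ext (congrArg Twist.fst hxm))
      (Prod.ext (Subtype.ext (congrArg Twist.snd hxm)) (congrArg Twist.val hxm))⟩
  -- the upper bound
  obtain ⟨g₁, hg₁⟩ := exists_lift (cov (Q₁ × Q₂)) (cov_ker_le_center _) (MonoidHom.inl Q₁ Q₂)
    fun q => cov_surjective _ _
  obtain ⟨g₂, hg₂⟩ := exists_lift (cov (Q₁ × Q₂)) (cov_ker_le_center _) (MonoidHom.inr Q₁ Q₂)
    fun q => cov_surjective _ _
  have hc₁ : ∀ x, cov (Q₁ × Q₂) (g₁ x) = (cov Q₁ x, 1) := fun x => DFunLike.congr_fun hg₁ x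
  have hc₂ : ∀ y, cov (Q₁ × Q₂) (g₂ y) = (1, cov Q₂ y) := fun y => DFunLike.congr_fun hg₂ y
  have hcm : ∀ x y, ⁅g₁ x, g₂ y⁆ ∈ mult (Q₁ × Q₂) := fun x y =>
    ⟨show cov _ ⁅g₁ x, g₂ y⁆ = 1 by
        rw [map_commutatorElement, hc₁, hc₂, commutatorElement_eq_one_iff_mul_comm]; simp,
      Subgroup.commutator_mem_commutator (Subgroup.mem_top _) (Subgroup.mem_top _)⟩
  let c : Cov Q₁ → Cov Q₂ → mult (Q₁ × Q₂) := fun x y => ⟨_, hcm x y⟩
  have hcl : ∀ x x' y, c (x * x') y = c x y * c x' y := fun x x' y => Subtype.ext (by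
    show ⁅g₁ (x * x'), g₂ y⁆ = ⁅g₁ x, g₂ y⁆ * ⁅g₁ x', g₂ y⁆
    have e := Subgroup.mem_center_iff.mp (mult_le_center _ (hcm x' y))
    rw [map_mul, show ⁅g₁ x * g₁ x', g₂ y⁆ = g₁ x * ⁅g₁ x', g₂ y⁆ * (g₁ x)⁻¹ * ⁅g₁ x, g₂ y⁆ by
      rw [commutatorElement_def, commutatorElement_def, commutatorElement_def]; group, e (g₁ x),
      mul_inv_cancel_right, e ⁅g₁ x, g₂ y⁆])
  have hcr : ∀ x y y', c x (y * y') = c x y * c x y' := fun x y y' => Subtype.ext (by
    show ⁅g₁ x, g₂ (y * y')⁆ = ⁅g₁ x, g₂ y⁆ * ⁅g₁ x, g₂ y'⁆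
    have e := Subgroup.mem_center_iff.mp (mult_le_center _ (hcm x y'))
    rw [map_mul, show ⁅g₁ x, g₂ y * g₂ y'⁆ = ⁅g₁ x, g₂ y⁆ * (g₂ y * ⁅g₁ x, g₂ y'⁆ * (g₂ y)⁻¹) by
      rw [commutatorElement_def, commutatorElement_def, commutatorElement_def]; group, e, mul_inv_cancel_right])
  have hck₁ : ∀ x y, cov Q₁ x = 1 → c x y = 1 := fun x y h => Subtype.ext (by
    show ⁅g₁ x, g₂ y⁆ = 1
    rw [commutatorElement_eq_one_iff_mul_comm]
    exact (Subgroup.mem_center_iff.mp (cov_ker_le_center _ (show cov _ (g₁ x) = 1 by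
      rw [hc₁, h]; rfl)) _).symm)
  have hck₂ : ∀ x y, cov Q₂ y = 1 → c x y = 1 := fun x y h => Subtype.ext (by
    show ⁅g₁ x, g₂ y⁆ = 1
    rw [commutatorElement_eq_one_iff_mul_comm]
    exact Subgroup.mem_center_iff.mp (cov_ker_le_center _ (show cov _ (g₂ y) = 1 by
      rw [hc₂, h]; rfl)) _)
  -- descend to the abelianizations
  let d : Cov Q₁ →* Cov Q₂ →* mult (Q₁ × Q₂) :=
    MonoidHom.mk' (fun x => MonoidHom.mk' (c x) (hcr x)) fun x x' => MonoidHom.ext (hcl x x')
  let d' : Q₁ →* Cov Q₂ →* mult (Q₁ × Q₂) :=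
    (cov Q₁).liftOfSurjective (cov_surjective Q₁) ⟨d, fun x hx => MonoidHom.ext fun y => hck₁ x y hx⟩
  have hd' : ∀ x, d' (cov Q₁ x) = d x := fun x => MonoidHom.liftOfRightInverse_comp_apply _ _ _ _ x
  let D : Abelianization Q₁ →* Cov Q₂ →* mult (Q₁ × Q₂) := Abelianization.lift d'
  let e : Cov Q₂ →* Abelianization Q₁ →* mult (Q₁ × Q₂) := MonoidHom.flip D
  let e' : Q₂ →* Abelianization Q₁ →* mult (Q₁ × Q₂) :=
    (cov Q₂).liftOfSurjective (cov_surjective Q₂) ⟨e, fun y hy => MonoidHom.ext fun a => by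
      obtain ⟨q, rfl⟩ := QuotientGroup.mk'_surjective (commutator _) a
      obtain ⟨x, rfl⟩ := cov_surjective Q₁ q
      show D (Abelianization.of (cov Q₁ x)) y = 1
      rw [Abelianization.lift_apply_of, hd']
      exact hck₂ x y hy⟩
  let E : Abelianization Q₁ →* Abelianization Q₂ →* mult (Q₁ × Q₂) :=
    MonoidHom.flip (Abelianization.lift e')
  let L : Additive (Abelianization Q₁) →ₗ[ℤ] Additive (Abelianization Q₂) →ₗ[ℤ] Additive (mult (Q₁ × Q₂)) :=
    (AddMonoidHom.mk' (fun a => (MonoidHom.toAdditive (E (Additive.toMul a))).toIntLinearMap)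
      fun a a' => by ext y; simp).toIntLinearMap
  let τ : TensorAb Q₁ Q₂ →* mult (Q₁ × Q₂) :=
    AddMonoidHom.toMultiplicativeLeft (TensorProduct.lift L).toAddMonoidHom
  have hτ : ∀ x y, τ (b x y) = c x y := fun x y => by
    show Additive.toMul (TensorProduct.lift L (TensorProduct.tmul ℤ _ _)) = _
    rw [TensorProduct.lift.tmul]
    show E (Abelianization.of (cov Q₁ x)) (Abelianization.of (cov Q₂ y)) = c x y
    show Abelianization.lift e' (Abelianization.of (cov Q₂ y)) (Abelianization.of (cov Q₁ x)) = c x y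
    rw [Abelianization.lift_apply_of,
      show e' (cov Q₂ y) = e y from MonoidHom.liftOfRightInverse_comp_apply _ _ _ _ y]
    show D (Abelianization.of (cov Q₁ x)) y = c x y
    rw [Abelianization.lift_apply_of, hd']
    rfl
  have hm₁ : ∀ m ∈ mult Q₁, g₁ m ∈ mult (Q₁ × Q₂) := fun m hm => by
    refine ⟨show cov _ (g₁ m) = 1 by rw [hc₁, MonoidHom.mem_ker.mp hm.1]; rfl, ?_⟩
    have h := Abelianization.commutator_subset_ker (Abelianization.of.comp g₁) hm.2
    rwa [← MonoidHom.comap_ker, Abelianization.ker_of] at h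
  have hm₂ : ∀ m ∈ mult Q₂, g₂ m ∈ mult (Q₁ × Q₂) := fun m hm => by
    refine ⟨show cov _ (g₂ m) = 1 by rw [hc₂, MonoidHom.mem_ker.mp hm.1]; rfl, ?_⟩
    have h := Abelianization.commutator_subset_ker (Abelianization.of.comp g₂) hm.2
    rwa [← MonoidHom.comap_ker, Abelianization.ker_of] at h
  let i₁ : mult Q₁ →* mult (Q₁ × Q₂) :=
    (g₁.comp (mult Q₁).subtype).codRestrict _ fun x => hm₁ x x.2
  let i₂ : mult Q₂ →* mult (Q₁ × Q₂) :=
    (g₂.comp (mult Q₂).subtype).codRestrict _ fun x => hm₂ x x.2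
  let Ψ : mult Q₁ × mult Q₂ × TensorAb Q₁ Q₂ →* mult (Q₁ × Q₂) := i₁.coprod (i₂.coprod τ)
  -- elements `g₁ u * g₂ v * t` form a subgroup containing the derived subgroup
  have hΨ : Function.Surjective Ψ := by
    intro m
    have hdec : ∀ z : Cov (Q₁ × Q₂), ∃ x y, ∃ w ∈ Subgroup.center (Cov (Q₁ × Q₂)), z = g₁ x * g₂ y * w := by
      intro z
      obtain ⟨x, hx⟩ := cov_surjective Q₁ (cov _ z).1
      obtain ⟨y, hy⟩ := cov_surjective Q₂ (cov _ z).2
      refine ⟨x, y, (g₁ x * g₂ y)⁻¹ * z, cov_ker_le_center _ ?_, by group⟩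
      rw [MonoidHom.mem_ker, map_mul, map_inv, map_mul, hc₁, hc₂, hx, hy]
      simp
    let C : Subgroup (Cov (Q₁ × Q₂)) := τ.range.map (mult (Q₁ × Q₂)).subtype
    have hCc : C ≤ Subgroup.center _ := by
      rintro _ ⟨x, -, rfl⟩
      exact mult_le_center _ x.2
    haveI hCn : C.Normal := ⟨fun z hz g => by
      rwa [Subgroup.mem_center_iff.mp (hCc hz) g, mul_inv_cancel_right]⟩
    let π := QuotientGroup.mk' C
    have hπc : ∀ x y, Commute (π (g₁ x)) (π (g₂ y)) := fun x y => by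
      rw [← commutatorElement_eq_one_iff_commute, ← map_commutatorElement]
      refine (QuotientGroup.eq_one_iff _).mpr ⟨c x y, ⟨b x y, hτ x y⟩, rfl⟩
    let F : Cov Q₁ × Cov Q₂ →* Cov (Q₁ × Q₂) ⧸ C :=
      MonoidHom.noncommCoprod (π.comp g₁) (π.comp g₂) hπc
    have hle : commutator (Cov (Q₁ × Q₂)) ≤ ((commutator (Cov Q₁ × Cov Q₂)).map F).comap π := by
      rw [commutator_def, Subgroup.commutator_le]
      intro z _ z' _
      obtain ⟨x, y, w, hw, rfl⟩ := hdec z
      obtain ⟨x', y', w', hw', rfl⟩ := hdec z'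
      rw [Subgroup.mem_comap, commutator_mul_central _ _ hw hw']
      exact ⟨⁅(x, y), (x', y')⁆, Subgroup.commutator_mem_commutator (Subgroup.mem_top _) (Subgroup.mem_top _),
        by rw [map_commutatorElement, map_commutatorElement]; simp [F]⟩
    obtain ⟨⟨u, v⟩, huv, huvm⟩ := hle m.2.2
    have hu : u ∈ commutator (Cov Q₁) := by
      have h := Abelianization.commutator_subset_ker (Abelianization.of.comp (MonoidHom.fst (Cov Q₁) (Cov Q₂))) huv
      rwa [← MonoidHom.comap_ker, Abelianization.ker_of] at h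
    have hv : v ∈ commutator (Cov Q₂) := by
      have h := Abelianization.commutator_subset_ker (Abelianization.of.comp (MonoidHom.snd (Cov Q₁) (Cov Q₂))) huv
      rwa [← MonoidHom.comap_ker, Abelianization.ker_of] at h
    have hC' : (g₁ u * g₂ v)⁻¹ * m ∈ C := QuotientGroup.eq.mp (by simpa [F, π] using huvm)
    obtain ⟨_, ⟨t, rfl⟩, ht⟩ := hC'
    have hcov : cov (Q₁ × Q₂) ((g₁ u * g₂ v)⁻¹ * m) = 1 := by
      rw [← ht]; exact (τ t).2.1
    rw [map_mul, map_inv, map_mul, hc₁, hc₂, MonoidHom.mem_ker.mp m.2.1] at hcov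
    simp only [mul_one, inv_eq_one, Prod.mk_mul_mk, one_mul, Prod.ext_iff] at hcov
    refine ⟨(⟨u, hcov.1, hu⟩, ⟨v, hcov.2, hv⟩, t), Subtype.ext ?_⟩
    show g₁ u * (g₂ v * (τ t : Cov (Q₁ × Q₂))) = m
    rw [show ((τ t : mult (Q₁ × Q₂)) : Cov (Q₁ × Q₂)) = (g₁ u * g₂ v)⁻¹ * m from ht]
    group
  haveI : Finite (mult Q₁ × mult Q₂ × TensorAb Q₁ Q₂) := Finite.of_surjective Φ hΦ
  exact ⟨MulEquiv.ofBijective Ψ ((Nat.bijective_iff_surjective_and_card _).mpr
    ⟨hΨ, le_antisymm (Nat.card_le_card_of_surjective Φ hΦ) (Nat.card_le_card_of_surjective Ψ hΨ)⟩)⟩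

end

end Cfsg.Agent.SchurMult
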