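import Mathlib
import Cfsg.Agent.Lib.SchurMult.Cover

/-!
# Projective representations and covering groups
-/

set_option autoImplicit false
set_option linter.style.haveILetI false

open scoped commutatorElement Classical

universe u v w

namespace Cfsg.Agent.SchurMult

/-- Homomorphisms into `ℂˣ` extend from subgroups of commutative groups. -/
theorem exists_extend {A : Type u} [CommGroup A] (B : Subgroup A) (φ : B →* ℂˣ) :
    ∃ Φ : A →* ℂˣ, ∀ b : B, Φ b = φ b := by
  haveI : DivisibleBy (Additive ℂˣ) ℤ := by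
    haveI : DivisibleBy (Additive ℂˣ) ℕ := divisibleByOfSMulRightSurj _ _ fun {n} hn x => by
      obtain ⟨z, hz⟩ := IsAlgClosed.exists_pow_nat_eq ((Additive.toMul x : ℂˣ) : ℂ)
        (Nat.pos_of_ne_zero hn)
      have hz0 : z ≠ 0 := by
        rintro rfl
        rw [zero_pow hn] at hz
        exact (Additive.toMul x : ℂˣ).ne_zero hz.symm
      exact ⟨Additive.ofMul (Units.mk0 z hz0), Additive.toMul.injective (Units.ext (by
        simp [hz]))⟩
    exact AddGroup.divisibleByIntOfDivisibleByNat _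
  obtain ⟨h, hh⟩ := (Module.Baer.of_divisible (Additive ℂˣ)).extension_property_addMonoidHom
    (MonoidHom.toAdditive B.subtype) B.subtype_injective (MonoidHom.toAdditive φ)
  exact ⟨MonoidHom.toAdditive.symm h, fun b => congrArg Additive.toMul
    (DFunLike.congr_fun hh (Additive.ofMul b))⟩

variable {Q : Type u} [Group Q]

/-- Maps from `Cov Q` agreeing modulo the centre agree on the multiplier. -/
theorem eqOn_commutator {X : Type v} [Group X] {f g : Cov Q →* X}
    (h : ∀ x, (f x)⁻¹ * g x ∈ Subgroup.center X) : ∀ x ∈ commutator (Cov Q), f x = g x := by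
  have hle : commutator (Cov Q) ≤ f.eqLocus g := by
    rw [commutator_def, Subgroup.commutator_le]
    intro a _ b _
    show f ⁅a, b⁆ = g ⁅a, b⁆
    rw [map_commutatorElement, map_commutatorElement, show g a = f a * ((f a)⁻¹ * g a) by group,
      show g b = f b * ((f b)⁻¹ * g b) by group, commutator_mul_central _ _ (h a) (h b)]
  exact fun x hx => hle hx

/-- A character of a complement of the multiplier extends to the whole of `Cov Q`. -/
theorem exists_extend_complement {C : Subgroup (Cov Q)} (hC : C ≤ (cov Q).ker)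
    (hinf : C ⊓ mult Q = ⊥) (φ : C →* ℂˣ) : ∃ Φ : Cov Q →* ℂˣ, ∀ c : C, Φ c = φ c := by
  let f : C →* Multiplicative (Q →₀ ℤ) := (abHom Q).comp C.subtype
  have hf : Function.Injective f := (injective_iff_map_eq_one _).mpr fun c hc => by
    have : (c : Cov Q) ∈ C ⊓ mult Q := ⟨c.2, hC c.2, (abHom_ker Q).le hc⟩
    rw [hinf, Subgroup.mem_bot] at this
    exact Subtype.ext this
  let e := MonoidHom.ofInjective hf
  obtain ⟨Ψ, hΨ⟩ := exists_extend f.range (φ.comp e.symm.toMonoidHom)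
  refine ⟨Ψ.comp (abHom Q), fun c => ?_⟩
  show Ψ (f c) = φ c
  rw [show f c = ((e c : f.range) : Multiplicative (Q →₀ ℤ)) from rfl, hΨ]
  simp

/-- Projective representations lift to covering groups. -/
theorem exists_projective_lift [Finite Q] {A : Type w} [CommGroup A]
    (hA : Cfsg.HasSchurMultiplier Q A) {Γ : Type v} [Group Γ] (σ : Γ →* Q)
    (hσ : Cfsg.IsStemExtension σ) (e : σ.ker ≃* A) (n : ℕ)
    (γ : Q →* (GL (Fin n) ℂ ⧸ Subgroup.center (GL (Fin n) ℂ))) :
    ∃ ρ : Γ →* GL (Fin n) ℂ,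
      (QuotientGroup.mk' (Subgroup.center (GL (Fin n) ℂ))).comp ρ = γ.comp σ := by
  rcases Nat.eq_zero_or_pos n with rfl | hn
  · refine ⟨1, MonoidHom.ext fun g => ?_⟩
    haveI : Subsingleton (GL (Fin 0) ℂ) := inferInstance
    exact Subsingleton.elim (α := GL (Fin 0) ℂ ⧸ Subgroup.center (GL (Fin 0) ℂ)) _ _
  haveI : Nonempty (Fin n) := ⟨⟨0, hn⟩⟩
  obtain ⟨β, hβ⟩ := exists_lift (QuotientGroup.mk' (Subgroup.center (GL (Fin n) ℂ)))
    (le_of_eq (QuotientGroup.ker_mk' _)) γ fun q =>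
      ((QuotientGroup.mk'_surjective _) (γ q))
  obtain ⟨β₀, hβ₀⟩ := exists_lift_id σ hσ.1 hσ.2.1
  have hC : β₀.ker ≤ (cov Q).ker := fun x hx => by
    rw [MonoidHom.mem_ker, ← hβ₀, MonoidHom.comp_apply, MonoidHom.mem_ker.mp hx, map_one]
  have hinf : β₀.ker ⊓ mult Q = ⊥ := by
    rw [Subgroup.eq_bot_iff_forall]
    rintro x ⟨hx, hxm⟩
    exact congrArg Subtype.val ((multMap_bijective_of_card hA hσ e hβ₀).1
      (a₁ := ⟨x, hxm⟩) (a₂ := 1) (Subtype.ext (hx.trans (map_one _).symm)))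
  let s : ℂˣ →* GL (Fin n) ℂ := Matrix.GeneralLinearGroup.scalar (Fin n)
  have hs : s.range = Subgroup.center (GL (Fin n) ℂ) :=
    (Matrix.GeneralLinearGroup.center_eq_range_scalar).symm
  have hsinj : Function.Injective s := fun a b hab => by
    have := congrArg (fun M : GL (Fin n) ℂ => (M : Matrix (Fin n) (Fin n) ℂ) ⟨0, hn⟩ ⟨0, hn⟩) hab
    exact Units.ext (by simpa [s] using this)
  have hcen : ∀ c : β₀.ker, β (c : Cov Q) ∈ s.range := fun c => by
    rw [hs, ← QuotientGroup.eq_one_iff]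
    have h1 : QuotientGroup.mk' (Subgroup.center (GL (Fin n) ℂ)) (β c) = γ (cov Q c) :=
      DFunLike.congr_fun hβ (c : Cov Q)
    rw [MonoidHom.mem_ker.mp (hC c.2), map_one] at h1
    exact h1
  let φ : β₀.ker →* ℂˣ := (MonoidHom.ofInjective hsinj).symm.toMonoidHom.comp
    ((β.comp β₀.ker.subtype).codRestrict s.range hcen)
  obtain ⟨Φ, hΦ⟩ := exists_extend_complement hC hinf φ
  have hZ : ∀ a : ℂˣ, s a ∈ Subgroup.center (GL (Fin n) ℂ) := fun a => hs.le ⟨a, rfl⟩
  let β' : Cov Q →* GL (Fin n) ℂ := MonoidHom.mk' (fun x => β x * (s (Φ x))⁻¹) fun x y => by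
    rw [map_mul, map_mul, map_mul, mul_inv_rev, mul_assoc (β x), ← mul_assoc (β y),
      Subgroup.mem_center_iff.mp (Subgroup.inv_mem _ (hZ (Φ y))) (β y),
      show (s (Φ y))⁻¹ * β y * (s (Φ x))⁻¹ = (s (Φ x))⁻¹ * ((s (Φ y))⁻¹ * β y) from
        Subgroup.mem_center_iff.mp (Subgroup.inv_mem _ (hZ (Φ x))) _,
      ← Subgroup.mem_center_iff.mp (Subgroup.inv_mem _ (hZ (Φ y))) (β y)]
    group
  have hker : β₀.ker ≤ β'.ker := fun c hc => by
    show β c * (s (Φ c))⁻¹ = 1
    rw [hΦ ⟨c, hc⟩, mul_inv_eq_one]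
    exact (congrArg Subtype.val ((MonoidHom.ofInjective hsinj).apply_symm_apply
      ⟨β c, hcen ⟨c, hc⟩⟩)).symm
  refine ⟨β₀.liftOfSurjective (stem_surjective hσ hβ₀) ⟨β', hker⟩, MonoidHom.ext fun g => ?_⟩
  obtain ⟨x, rfl⟩ := stem_surjective hσ hβ₀ g
  rw [MonoidHom.comp_apply, MonoidHom.comp_apply, MonoidHom.liftOfSurjective,
    MonoidHom.liftOfRightInverse_comp_apply]
  show QuotientGroup.mk' (Subgroup.center (GL (Fin n) ℂ)) (β x * (s (Φ x))⁻¹) = γ (σ (β₀ x))
  rw [map_mul, map_inv, show QuotientGroup.mk' (Subgroup.center (GL (Fin n) ℂ)) (s (Φ x)) = 1 from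
    (QuotientGroup.eq_one_iff _).mpr (hZ _), inv_one, mul_one, ← MonoidHom.comp_apply σ, hβ₀]
  exact DFunLike.congr_fun hβ x

/-- The monomial representation of `Cov Q` induced from a character of the kernel. -/
theorem exists_monomial [Finite Q] (Ψ : (cov Q).ker →* ℂˣ) :
    ∃ (n : ℕ) (P : Cov Q →* GL (Fin n) ℂ), 0 < n ∧
      ∀ k : (cov Q).ker, P k = Matrix.GeneralLinearGroup.scalar (Fin n) (Ψ k) := by
  obtain ⟨s, hs⟩ := (cov_surjective Q).hasRightInverse
  obtain ⟨e⟩ : Nonempty (Fin (Nat.card Q) ≃ Q) := ⟨(Finite.equivFin Q).symm⟩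
  let k : Cov Q → Q → (cov Q).ker := fun x q => ⟨(s (cov Q x * q))⁻¹ * (x * s q), by
    rw [MonoidHom.mem_ker, map_mul, map_inv, map_mul, hs, hs, inv_mul_cancel]⟩
  have hk : ∀ x y q, k (x * y) q = k x (cov Q y * q) * k y q := fun x y q => Subtype.ext (by
    show (s (cov Q (x * y) * q))⁻¹ * (x * y * s q) = _
    rw [map_mul, mul_assoc (cov Q x)]
    show _ = (s (cov Q x * (cov Q y * q)))⁻¹ * (x * s (cov Q y * q)) *
      ((s (cov Q y * q))⁻¹ * (y * s q))
    group)
  let M : Cov Q → Matrix (Fin (Nat.card Q)) (Fin (Nat.card Q)) ℂ := fun x =>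
    Matrix.of fun i j => if e i = cov Q x * e j then (Ψ (k x (e j)) : ℂ) else 0
  have hK : ∀ (z : (cov Q).ker) q, k z q = z := fun z q => Subtype.ext (by
    show (s (cov Q z * q))⁻¹ * ((z : Cov Q) * s q) = z
    rw [MonoidHom.mem_ker.mp z.2, one_mul, ← Subgroup.mem_center_iff.mp (cov_ker_le_center Q z.2) (s q)]
    group)
  have hMz : ∀ z : (cov Q).ker, M z = Matrix.scalar (Fin (Nat.card Q)) (Ψ z : ℂ) := by
    intro z
    ext i j
    simp only [M, Matrix.of_apply, hK, MonoidHom.mem_ker.mp z.2, one_mul, EmbeddingLike.apply_eq_iff_eq,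
      Matrix.scalar_apply, Matrix.diagonal_apply]
  let Mh : Cov Q →* Matrix (Fin (Nat.card Q)) (Fin (Nat.card Q)) ℂ :=
    { toFun := M
      map_one' := by
        have h := hMz 1
        rw [OneMemClass.coe_one] at h
        rw [h, map_one Ψ, Units.val_one, map_one]
      map_mul' := fun x y => by
        ext i j
        rw [Matrix.mul_apply, Finset.sum_eq_single (e.symm (cov Q y * e j))]
        · simp only [M, Matrix.of_apply, Equiv.apply_symm_apply, if_true, hk, map_mul, mul_assoc,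
            ite_mul, zero_mul, Units.val_mul]
        · intro l _ hl
          have : ¬ e l = cov Q y * e j := fun h => hl (by rw [← h, Equiv.symm_apply_apply])
          simp [M, this]
        · exact fun h => absurd (Finset.mem_univ _) h }
  exact ⟨Nat.card Q, Mh.toHomUnits, Nat.card_pos, fun z => Units.ext (hMz z)⟩

/-- A stem extension to which all projective representations lift has the multiplier as kernel. -/
theorem multMap_injective_of_lift [Finite Q] {Γ : Type v} [Group Γ] {σ : Γ →* Q}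
    {β : Cov Q →* Γ} (hβ : σ.comp β = cov Q)
    (hlift : ∀ (n : ℕ) (γ : Q →* (GL (Fin n) ℂ ⧸ Subgroup.center (GL (Fin n) ℂ))),
      ∃ ρ : Γ →* GL (Fin n) ℂ,
        (QuotientGroup.mk' (Subgroup.center (GL (Fin n) ℂ))).comp ρ = γ.comp σ) :
    Function.Injective (multMap hβ) := by
  refine (injective_iff_map_eq_one _).mpr fun m hm => ?_
  by_contra hm1
  obtain ⟨χ, hχ⟩ := CommGroup.exists_apply_ne_one_of_hasEnoughRootsOfUnity (mult Q) ℂ hm1
  letI : CommGroup (cov Q).ker := { (inferInstance : Group (cov Q).ker) with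
    mul_comm := mul_comm' }
  let i : mult Q →* (cov Q).ker := Subgroup.inclusion (mult_le_ker Q)
  let ei := MonoidHom.ofInjective (Subgroup.inclusion_injective (mult_le_ker Q))
  obtain ⟨Ψ, hΨ⟩ := exists_extend i.range (χ.comp ei.symm.toMonoidHom)
  obtain ⟨n, P, hn, hP⟩ := exists_monomial Ψ
  haveI : Nonempty (Fin n) := ⟨⟨0, hn⟩⟩
  set π := QuotientGroup.mk' (Subgroup.center (GL (Fin n) ℂ)) with hπ
  have hkill : (cov Q).ker ≤ (π.comp P).ker := fun k hk => by
    show π (P k) = 1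
    rw [hP ⟨k, hk⟩, hπ, QuotientGroup.mk'_apply, QuotientGroup.eq_one_iff,
      Matrix.GeneralLinearGroup.center_eq_range_scalar]
    exact ⟨_, rfl⟩
  let γ := (cov Q).liftOfSurjective (cov_surjective Q) ⟨π.comp P, hkill⟩
  obtain ⟨ρ, hρ⟩ := hlift n γ
  have hcen : ∀ x, (P x)⁻¹ * (ρ.comp β) x ∈ Subgroup.center (GL (Fin n) ℂ) := by
    intro x
    have h1 : π (ρ (β x)) = π (P x) := by
      rw [show π (ρ (β x)) = γ (σ (β x)) from DFunLike.congr_fun hρ (β x),
        show σ (β x) = cov Q x from DFunLike.congr_fun hβ x,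
        show γ (cov Q x) = π (P x) from MonoidHom.liftOfRightInverse_comp_apply _ _ _ _ x]
    exact QuotientGroup.eq.mp h1.symm
  have heq := eqOn_commutator hcen m m.2.2
  rw [MonoidHom.comp_apply, show β m = 1 from congrArg Subtype.val hm, map_one,
    hP ⟨m, mult_le_ker Q m.2⟩] at heq
  have hval : Ψ ⟨m, mult_le_ker Q m.2⟩ = χ m := by
    rw [show (⟨(m : Cov Q), mult_le_ker Q m.2⟩ : (cov Q).ker) = ((ei m : i.range) : (cov Q).ker) from rfl,
      hΨ]
    simp
  apply hχ
  have := congrArg (fun M : GL (Fin n) ℂ => (M : Matrix (Fin n) (Fin n) ℂ) ⟨0, hn⟩ ⟨0, hn⟩) heq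
  rw [hval] at this
  exact Units.ext (by simpa using this)

end Cfsg.Agent.SchurMult
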