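import Mathlib
import Cfsg.Agent.Lib.SchurMult.Cover

/-!
# Restriction and corestriction for Schur multipliers
-/

set_option autoImplicit false
set_option linter.style.haveILetI false

open scoped commutatorElement

universe u v w

namespace Cfsg.Agent.SchurMult

variable {Q : Type u} [Group Q]

/-- A map of `Cov U` to `Cov Q` over the inclusion. -/
theorem exists_subgroup_map (U : Subgroup Q) :
    ∃ g : Cov U →* Cov Q, (cov Q).comp g = U.subtype.comp (cov U) :=
  exists_lift (cov Q) (cov_ker_le_center Q) U.subtype fun x => cov_surjective Q x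

theorem map_mult_le {U : Subgroup Q} {g : Cov U →* Cov Q}
    (hg : (cov Q).comp g = U.subtype.comp (cov U)) : (mult U).map g ≤ mult Q := by
  rintro _ ⟨x, ⟨hx, hx'⟩, rfl⟩
  refine ⟨?_, ?_⟩
  · show cov Q (g x) = 1
    rw [← MonoidHom.comp_apply, hg, MonoidHom.comp_apply, MonoidHom.mem_ker.mp hx, map_one]
  · have h := Abelianization.commutator_subset_ker (Abelianization.of.comp g) hx'
    rw [← MonoidHom.comap_ker, Abelianization.ker_of] at h
    exact h

variable [Finite Q]

/-- Powers by the index land in the image of the multiplier of a subgroup. -/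
theorem pow_index_mem_map {U : Subgroup Q} {g : Cov U →* Cov Q}
    (hg : (cov Q).comp g = U.subtype.comp (cov U)) {m : Cov Q} (hm : m ∈ mult Q) :
    m ^ U.index ∈ (mult U).map g := by
  set U' := U.comap (cov Q) with hU'
  have hidx : U'.index = U.index := U.index_comap_of_surjective (cov_surjective Q)
  haveI : U'.FiniteIndex := ⟨by rw [hidx]; exact Subgroup.index_ne_zero_of_finite⟩
  let σ : U' →* U := ((cov Q).comp U'.subtype).codRestrict U fun x => x.2
  let g' : Cov U →* U' := g.codRestrict U' fun x => by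
    show cov Q (g x) ∈ U
    rw [← MonoidHom.comp_apply, hg]
    exact (cov U x).2
  have hg' : σ.comp g' = cov U := MonoidHom.ext fun x => Subtype.ext (DFunLike.congr_fun hg x)
  have hσ : σ.ker ≤ Subgroup.center U' := fun x hx => by
    rw [Subgroup.mem_center_iff]
    exact fun y => Subtype.ext (Subgroup.mem_center_iff.mp
      (cov_ker_le_center Q (show cov Q x = 1 from congrArg Subtype.val hx)) y)
  have hmU : ∀ k : ℕ, m ^ k ∈ (cov Q).ker := fun k => pow_mem (mult_le_ker Q hm) k
  have hmem : m ^ U.index ∈ U' := by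
    show cov Q (m ^ U.index) ∈ U
    rw [MonoidHom.mem_ker.mp (hmU _)]
    exact U.one_mem
  have hcomm : (⟨m ^ U.index, hmem⟩ : U') ∈ commutator U' := by
    rw [← Abelianization.ker_of, MonoidHom.mem_ker]
    have htr : MonoidHom.transfer (Abelianization.of (G := U')) m = 1 :=
      Abelianization.commutator_subset_ker _ hm.2
    rw [MonoidHom.transfer_eq_pow _ m fun k g₀ _ => by
      rw [mul_assoc, ← Subgroup.mem_center_iff.mp (cov_ker_le_center Q (hmU k)) g₀,
        inv_mul_cancel_left]] at htr
    convert htr using 3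
    rw [hidx]
  obtain ⟨x, hx, hxm⟩ := (map_mult hσ hg').ge
    (show (⟨m ^ U.index, hmem⟩ : U') ∈ σ.ker ⊓ commutator U' from
      ⟨Subtype.ext (MonoidHom.mem_ker.mp (hmU _)), hcomm⟩)
  exact ⟨x, hx, congrArg Subtype.val hxm⟩

/-- The multiplier has exponent dividing the order of the group. -/
theorem pow_card_eq_one {m : Cov Q} (hm : m ∈ mult Q) : m ^ Nat.card Q = 1 := by
  obtain ⟨g, hg⟩ := exists_subgroup_map (⊥ : Subgroup Q)
  obtain ⟨x, hx, hxm⟩ := pow_index_mem_map hg hm
  rw [Subgroup.index_bot] at hxm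
  have hbot : mult (⊥ : Subgroup Q) = ⊥ := by
    rw [eq_bot_iff]
    refine inf_le_right.trans ?_
    rw [commutator_def, Subgroup.commutator_le]
    intro a _ b _
    rw [Subgroup.mem_bot, commutatorElement_eq_one_iff_mul_comm]
    exact Subgroup.mem_center_iff.mp (cov_ker_le_center _ (Subsingleton.elim (cov _ b) 1)) a
  have hx : x ∈ mult (⊥ : Subgroup Q) := hx
  rw [hbot, Subgroup.mem_bot] at hx
  rw [← hxm, hx, map_one]

/-- Corestriction: the multiplication by the index factors through the multiplier of a subgroup. -/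
theorem exists_cores (U : Subgroup Q) {g : Cov U →* Cov Q}
    (hg : (cov Q).comp g = U.subtype.comp (cov U)) :
    ∃ t : mult Q →* mult U, ∀ m : mult Q, g (t m) = (m : Cov Q) ^ U.index := by
  set R := (pres Q).ker with hR
  set S := U.comap (pres Q) with hS
  have hidx : S.index = U.index := U.index_comap_of_surjective (pres_surjective Q)
  haveI : S.FiniteIndex := ⟨by rw [hidx]; exact Subgroup.index_ne_zero_of_finite⟩
  letI := S.fintypeQuotientOfFiniteIndex
  haveI : IsFreeGroup S := subgroupIsFreeOfIsFree S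
  let ψ : S →* U := ((pres Q).comp S.subtype).codRestrict U fun x => x.2
  choose l hl using fun a : IsFreeGroup.Generators S => cov_surjective U (ψ (IsFreeGroup.of a))
  let θ : S →* Cov U := IsFreeGroup.lift l
  have hθ : (cov U).comp θ = ψ := IsFreeGroup.ext_hom fun a => by
    simp only [MonoidHom.comp_apply, θ, IsFreeGroup.lift_of, hl]
  have hRS : ∀ (r : FreeGroup Q) (x : FreeGroup Q), r ∈ R → x⁻¹ * r * x ∈ S := fun r x hr => by
    show pres Q (x⁻¹ * r * x) ∈ U
    rw [map_mul, map_mul, MonoidHom.mem_ker.mp hr, mul_one, map_inv, inv_mul_cancel]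
    exact U.one_mem
  have hθR : ∀ (r : S), (r : FreeGroup Q) ∈ R → θ r ∈ (cov U).ker := fun r hr => by
    show cov U (θ r) = 1
    rw [← MonoidHom.comp_apply, hθ]
    exact Subtype.ext hr
  letI : CommGroup (cov U).ker :=
    { (inferInstance : Group (cov U).ker) with mul_comm := mul_comm' }
  -- the product over the cosets
  let term : R → FreeGroup Q ⧸ S → (cov U).ker := fun r q =>
    ⟨θ ⟨q.out⁻¹ * r * q.out, hRS r q.out r.2⟩, hθR _ (by
      show q.out⁻¹ * (r : FreeGroup Q) * q.out ∈ R
      have := (MonoidHom.normal_ker (pres Q)).conj_mem _ r.2 q.out⁻¹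
      rwa [inv_inv] at this)⟩
  let T : R →* (cov U).ker := MonoidHom.mk' (fun r => ∏ q, term r q) fun a b => by
    rw [← Finset.prod_mul_distrib]
    refine Finset.prod_congr rfl fun q _ => Subtype.ext ?_
    show θ _ = θ _ * θ _
    rw [← map_mul]
    exact congrArg θ (Subtype.ext (by simp only [Subgroup.coe_mul]; group))
  -- conjugation invariance
  have hconj : ∀ (r : R) (f : FreeGroup Q),
      T ⟨f * r * f⁻¹, (MonoidHom.normal_ker (pres Q)).conj_mem _ r.2 f⟩ = T r := by
    intro r f
    refine (Fintype.prod_equiv (MulAction.toPerm f) _ _ fun q => Subtype.ext ?_).symm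
    show θ _ = θ _
    set q' : FreeGroup Q ⧸ S := f • q with hq'
    have hs : (f * q.out)⁻¹ * q'.out ∈ S := by
      rw [← QuotientGroup.eq, QuotientGroup.out_eq', hq']
      show _ = f • q
      conv_rhs => rw [← QuotientGroup.out_eq' q]
      rfl
    set s : S := ⟨_, hs⟩
    set x : S := ⟨q.out⁻¹ * r * q.out, hRS r q.out r.2⟩
    have hx : (⟨q'.out⁻¹ * (f * r * f⁻¹) * q'.out, hRS _ q'.out
        ((MonoidHom.normal_ker (pres Q)).conj_mem _ r.2 f)⟩ : S) = s⁻¹ * x * s := Subtype.ext (by
      simp only [Subgroup.coe_mul, InvMemClass.coe_inv, s, x]; group)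
    show θ x = θ _
    rw [show (MulAction.toPerm f) q = q' from rfl]
    show θ x = θ ⟨q'.out⁻¹ * (f * r * f⁻¹) * q'.out, _⟩
    rw [hx, map_mul, map_mul, map_inv]
    have hz := Subgroup.mem_center_iff.mp (cov_ker_le_center U (term r q).2) (θ s)
    change θ s * θ x = θ x * θ s at hz
    rw [mul_assoc, ← hz, inv_mul_cancel_left]
  have hkill : ∀ (r : R), (r : FreeGroup Q) ∈ relComm Q → T r = 1 := by
    intro r hr
    suffices relComm Q ≤ T.ker.map R.subtype by
      obtain ⟨r', hr', he⟩ := this hr
      rwa [show r' = r from Subtype.ext he] at hr'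
    rw [relComm, Subgroup.commutator_le]
    intro a ha f _
    refine ⟨⟨a, ha⟩ * (⟨f * a * f⁻¹, (MonoidHom.normal_ker (pres Q)).conj_mem _ ha f⟩ : R)⁻¹, ?_, ?_⟩
    · show T _ = 1
      rw [map_mul, map_inv, hconj ⟨a, ha⟩ f, mul_inv_cancel]
    · simp only [Subgroup.coe_subtype, Subgroup.coe_mul, InvMemClass.coe_inv, commutatorElement_def]
      group
  -- comparison with transfer
  have htr : ∀ {A : Type u} [CommGroup A] (φ : S →* A) (r : R),
      MonoidHom.transfer φ (r : FreeGroup Q) = ∏ q : FreeGroup Q ⧸ S,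
        φ ⟨q.out⁻¹ * r * q.out, hRS r q.out r.2⟩ := by
    intro A _ φ r
    let T₀ : S.LeftTransversal := ⟨Set.range Quotient.out,
      Subgroup.isComplement_range_left (f := fun q : FreeGroup Q ⧸ S => q.out) QuotientGroup.out_eq'⟩
    rw [MonoidHom.transfer_def φ T₀]
    unfold Subgroup.leftTransversals.diff
    refine Fintype.prod_congr _ _ fun q => congrArg φ (Subtype.ext ?_)
    have hT : ∀ q, ((T₀.2.leftQuotientEquiv q : T₀.1) : FreeGroup Q) = q.out := fun q =>
      Subgroup.IsComplement.leftQuotientEquiv_apply (fun q => QuotientGroup.out_eq' q) q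
    have hq : (r : FreeGroup Q)⁻¹ • q = q := by
      conv_lhs => rw [← QuotientGroup.out_eq' q]
      show ((((r : FreeGroup Q)⁻¹ * q.out : FreeGroup Q)) : FreeGroup Q ⧸ S) = q
      conv_rhs => rw [← QuotientGroup.out_eq' q]
      rw [QuotientGroup.eq, mul_inv_rev, inv_inv]
      exact hRS r q.out r.2
    show _⁻¹ * _ = q.out⁻¹ * r * q.out
    rw [Subgroup.smul_apply_eq_smul_apply_inv_smul, hT, hq, hT, smul_eq_mul, mul_assoc]
  -- definition on the multiplier
  have hrep : ∀ m : mult Q, ∃ r : R, ((r : FreeGroup Q) ∈ commutator (FreeGroup Q)) ∧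
      ((r : FreeGroup Q) : Cov Q) = m := by
    intro m
    have h : (m : Cov Q) ∈ (commutator (FreeGroup Q)).map (QuotientGroup.mk' (relComm Q)) := by
      rw [commutator_def, Subgroup.map_commutator,
        Subgroup.map_top_of_surjective _ (QuotientGroup.mk'_surjective _)]
      exact m.2.2
    obtain ⟨x, hx, hxm⟩ := h
    refine ⟨⟨x, ?_⟩, hx, hxm⟩
    have := m.2.1
    rw [← hxm] at this
    exact this
  choose rep hrepc hrep using hrep
  have hT1 : ∀ r : R, (r : FreeGroup Q) ∈ commutator (FreeGroup Q) →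
      ((T r : (cov U).ker) : Cov U) ∈ mult U := by
    intro r hr
    refine ⟨(T r).2, ?_⟩
    show _ ∈ commutator (Cov U)
    rw [← Abelianization.ker_of, MonoidHom.mem_ker, show ((T r : (cov U).ker) : Cov U) = (cov U).ker.subtype (T r) from rfl,
      ← MonoidHom.comp_apply]
    show (Abelianization.of.comp (cov U).ker.subtype) (∏ q, term r q) = 1
    rw [map_prod]
    refine Eq.trans ?_ (Abelianization.commutator_subset_ker
      (MonoidHom.transfer ((Abelianization.of (G := Cov U)).comp θ)) hr)
    rw [htr]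
    rfl
  have hTmul : ∀ a b : mult Q, T (rep (a * b)) = T (rep a) * T (rep b) := by
    intro a b
    rw [← map_mul, ← mul_inv_eq_one, ← map_inv, ← map_mul]
    refine hkill _ ((QuotientGroup.eq_one_iff _).mp ?_)
    simp only [Subgroup.coe_mul, InvMemClass.coe_inv, QuotientGroup.mk_mul, QuotientGroup.mk_inv, hrep,
      mul_inv_cancel]
  refine ⟨MonoidHom.mk' (fun m => ⟨T (rep m), hT1 _ (hrepc m)⟩) fun a b => Subtype.ext (by
    show ((T (rep (a * b)) : (cov U).ker) : Cov U) = _
    rw [hTmul]; rfl), fun m => ?_⟩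
  show g ((T (rep m) : (cov U).ker) : Cov U) = _
  -- `g ∘ θ` differs from the projection by a homomorphism into the kernel
  letI : CommGroup (cov Q).ker :=
    { (inferInstance : Group (cov Q).ker) with mul_comm := mul_comm' }
  have hc0 : ∀ x : S, (QuotientGroup.mk' (relComm Q) x)⁻¹ * g (θ x) ∈ (cov Q).ker := by
    intro x
    show cov Q _ = 1
    rw [map_mul, map_inv, ← MonoidHom.comp_apply (cov Q) g, hg, MonoidHom.comp_apply,
      ← MonoidHom.comp_apply (cov U) θ, hθ]
    exact inv_mul_cancel (pres Q x)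
  let c : S →* (cov Q).ker := MonoidHom.mk' (fun x => ⟨_, hc0 x⟩) fun x y => Subtype.ext (by
    show (QuotientGroup.mk' (relComm Q) ↑(x * y))⁻¹ * g (θ (x * y)) = _
    have hy := Subgroup.mem_center_iff.mp (cov_ker_le_center Q (hc0 x))
      (QuotientGroup.mk' (relComm Q) y)⁻¹
    rw [Subgroup.coe_mul, map_mul, map_mul, map_mul, mul_inv_rev, mul_assoc
      (QuotientGroup.mk' (relComm Q) y)⁻¹, ← mul_assoc _ (g (θ x)), ← mul_assoc
      (QuotientGroup.mk' (relComm Q) y)⁻¹, hy]
    simp only [Subgroup.coe_mul]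
    group)
  let gK : (cov U).ker →* (cov Q).ker := (g.comp (cov U).ker.subtype).codRestrict _ fun x => by
    show cov Q (g x) = 1
    rw [← MonoidHom.comp_apply, hg, MonoidHom.comp_apply, MonoidHom.mem_ker.mp x.2, map_one]
  set r := rep m
  have hmk : QuotientGroup.mk' (relComm Q) (r : FreeGroup Q) ∈ (cov Q).ker := r.2
  have hterm : ∀ q : FreeGroup Q ⧸ S, gK (term r q) =
      (⟨_, hmk⟩ : (cov Q).ker) * c ⟨q.out⁻¹ * r * q.out, hRS r q.out r.2⟩ := by
    intro q
    refine Subtype.ext ?_
    show g (θ _) = QuotientGroup.mk' (relComm Q) (r : FreeGroup Q) *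
      ((QuotientGroup.mk' (relComm Q) (q.out⁻¹ * r * q.out))⁻¹ * g (θ _))
    rw [map_mul, map_mul, map_inv, mul_assoc _ (QuotientGroup.mk' (relComm Q) (r : FreeGroup Q)),
      ← Subgroup.mem_center_iff.mp (cov_ker_le_center Q hmk) (QuotientGroup.mk' (relComm Q) q.out),
      inv_mul_cancel_left, mul_inv_cancel_left]
  have hprod : gK (T r) = (⟨_, hmk⟩ : (cov Q).ker) ^ U.index := by
    show gK (∏ q, term r q) = _
    rw [map_prod, Finset.prod_congr rfl fun q _ => hterm q, Finset.prod_mul_distrib, Finset.prod_const,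
      ← htr c r, show MonoidHom.transfer c (r : FreeGroup Q) = 1 from
        Abelianization.commutator_subset_ker _ (hrepc m), mul_one, Finset.card_univ,
      ← Nat.card_eq_fintype_card]
    exact congrArg _ hidx
  have h1 := congrArg Subtype.val hprod
  rw [Subgroup.coe_pow] at h1
  rw [← hrep m]
  exact h1

end Cfsg.Agent.SchurMult
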